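/-!
# Generated data for the Schur multiplier of `F₄(2)`
-/

set_option autoImplicit false
set_option maxRecDepth 100000

namespace Cfsg.Agent.Lib.F4Dat12

noncomputable section

def S0 : List (Nat × Nat × Bool) := [
  (nat_lit 33, nat_lit 3, true),
  (nat_lit 43, nat_lit 21, false),
  (nat_lit 47, nat_lit 16, false),
  (nat_lit 43, nat_lit 22, false),
  (nat_lit 41, nat_lit 24, false),
  (nat_lit 45, nat_lit 26, false),
  (nat_lit 42, nat_lit 23, false),
  (nat_lit 45, nat_lit 17, false),
  (nat_lit 42, nat_lit 25, false),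
  (nat_lit 43, nat_lit 31, false),
  (nat_lit 45, nat_lit 16, false),
  (nat_lit 45, nat_lit 25, false),
  (nat_lit 46, nat_lit 17, false),
  (nat_lit 43, nat_lit 30, false),
  (nat_lit 46, nat_lit 15, false),
  (nat_lit 46, nat_lit 24, false),
  (nat_lit 41, nat_lit 26, false),
  (nat_lit 47, nat_lit 15, false),
  (nat_lit 42, nat_lit 32, false),
  (nat_lit 46, nat_lit 22, false),
  (nat_lit 47, nat_lit 21, false),
  (nat_lit 41, nat_lit 32, false),
  (nat_lit 42, nat_lit 30, false),
  (nat_lit 41, nat_lit 31, false),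
  (nat_lit 47, nat_lit 23, false),
  (nat_lit 30, nat_lit 24, false),
  (nat_lit 30, nat_lit 26, false),
  (nat_lit 31, nat_lit 25, false),
  (nat_lit 25, nat_lit 24, false),
  (nat_lit 46, nat_lit 2, false),
  (nat_lit 45, nat_lit 6, false),
  (nat_lit 46, nat_lit 6, false),
  (nat_lit 47, nat_lit 1, false),
  (nat_lit 47, nat_lit 2, false),
  (nat_lit 26, nat_lit 22, false),
  (nat_lit 31, nat_lit 23, false),
  (nat_lit 32, nat_lit 21, false),
  (nat_lit 45, nat_lit 0, false),
  (nat_lit 45, nat_lit 1, false),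
  (nat_lit 45, nat_lit 5, false),
  (nat_lit 46, nat_lit 4, false),
  (nat_lit 47, nat_lit 5, false),
  (nat_lit 31, nat_lit 17, false),
  (nat_lit 32, nat_lit 22, false),
  (nat_lit 46, nat_lit 0, false),
  (nat_lit 47, nat_lit 4, false),
  (nat_lit 31, nat_lit 15, false),
  (nat_lit 32, nat_lit 16, false),
  (nat_lit 32, nat_lit 17, false),
  (nat_lit 43, nat_lit 5, false),
  (nat_lit 30, nat_lit 15, false),
  (nat_lit 30, nat_lit 16, false),
  (nat_lit 42, nat_lit 6, false),
  (nat_lit 43, nat_lit 6, false),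
  (nat_lit 25, nat_lit 21, false),
  (nat_lit 30, nat_lit 2, false),
  (nat_lit 31, nat_lit 2, false),
  (nat_lit 32, nat_lit 1, false),
  (nat_lit 41, nat_lit 4, false),
  (nat_lit 42, nat_lit 4, false),
  (nat_lit 15, nat_lit 5, false),
  (nat_lit 15, nat_lit 6, false),
  (nat_lit 16, nat_lit 4, false),
  (nat_lit 16, nat_lit 6, false),
  (nat_lit 17, nat_lit 4, false),
  (nat_lit 17, nat_lit 5, false),
  (nat_lit 21, nat_lit 2, false),
  (nat_lit 21, nat_lit 6, false),
  (nat_lit 21, nat_lit 17, false),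
  (nat_lit 22, nat_lit 2, false),
  (nat_lit 22, nat_lit 5, false),
  (nat_lit 22, nat_lit 16, false),
  (nat_lit 23, nat_lit 1, false),
  (nat_lit 23, nat_lit 6, false),
  (nat_lit 23, nat_lit 17, false),
  (nat_lit 23, nat_lit 22, false),
  (nat_lit 24, nat_lit 0, false),
  (nat_lit 24, nat_lit 5, false),
  (nat_lit 24, nat_lit 16, false),
  (nat_lit 24, nat_lit 21, false),
  (nat_lit 25, nat_lit 1, false),
  (nat_lit 25, nat_lit 4, false),
  (nat_lit 25, nat_lit 15, false),
  (nat_lit 26, nat_lit 0, false),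
  (nat_lit 26, nat_lit 4, false),
  (nat_lit 26, nat_lit 15, false),
  (nat_lit 26, nat_lit 23, false),
  (nat_lit 30, nat_lit 1, false),
  (nat_lit 31, nat_lit 0, false),
  (nat_lit 32, nat_lit 0, false),
  (nat_lit 41, nat_lit 1, false),
  (nat_lit 41, nat_lit 2, false),
  (nat_lit 41, nat_lit 5, false),
  (nat_lit 42, nat_lit 0, false),
  (nat_lit 42, nat_lit 2, false),
  (nat_lit 43, nat_lit 0, false),
  (nat_lit 43, nat_lit 1, false),
  (nat_lit 47, nat_lit 39, false),
  (nat_lit 47, nat_lit 38, false),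
  (nat_lit 46, nat_lit 39, false),
  (nat_lit 46, nat_lit 44, false),
  (nat_lit 45, nat_lit 44, false),
  (nat_lit 47, nat_lit 44, false),
  (nat_lit 45, nat_lit 37, false),
  (nat_lit 39, nat_lit 38, false),
  (nat_lit 45, nat_lit 39, false),
  (nat_lit 47, nat_lit 41, false),
  (nat_lit 45, nat_lit 38, false),
  (nat_lit 46, nat_lit 37, false),
  (nat_lit 46, nat_lit 38, false),
  (nat_lit 46, nat_lit 40, false),
  (nat_lit 47, nat_lit 40, false),
  (nat_lit 45, nat_lit 36, false),
  (nat_lit 46, nat_lit 36, false),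
  (nat_lit 44, nat_lit 43, false),
  (nat_lit 47, nat_lit 37, false),
  (nat_lit 45, nat_lit 40, false),
  (nat_lit 47, nat_lit 36, false),
  (nat_lit 41, nat_lit 39, false),
  (nat_lit 43, nat_lit 38, false),
  (nat_lit 44, nat_lit 41, false),
  (nat_lit 44, nat_lit 42, false),
  (nat_lit 42, nat_lit 39, false),
  (nat_lit 47, nat_lit 35, false),
  (nat_lit 45, nat_lit 35, false),
  (nat_lit 46, nat_lit 42, false),
  (nat_lit 40, nat_lit 36, false),
  (nat_lit 41, nat_lit 38, false),
  (nat_lit 45, nat_lit 43, false),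
  (nat_lit 41, nat_lit 40, false),
  (nat_lit 42, nat_lit 37, false),
  (nat_lit 42, nat_lit 40, false),
  (nat_lit 45, nat_lit 14, false),
  (nat_lit 43, nat_lit 37, false),
  (nat_lit 43, nat_lit 40, false),
  (nat_lit 46, nat_lit 14, false),
  (nat_lit 47, nat_lit 46, false),
  (nat_lit 46, nat_lit 34, false),
  (nat_lit 47, nat_lit 34, false),
  (nat_lit 41, nat_lit 36, false),
  (nat_lit 46, nat_lit 45, false),
  (nat_lit 47, nat_lit 14, false),
  (nat_lit 46, nat_lit 35, false),
  (nat_lit 43, nat_lit 39, false),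
  (nat_lit 47, nat_lit 45, false),
  (nat_lit 38, nat_lit 37, false),
  (nat_lit 39, nat_lit 37, false),
  (nat_lit 42, nat_lit 38, false),
  (nat_lit 45, nat_lit 33, false),
  (nat_lit 42, nat_lit 35, false),
  (nat_lit 43, nat_lit 35, false),
  (nat_lit 46, nat_lit 33, false),
  (nat_lit 46, nat_lit 13, false),
  (nat_lit 47, nat_lit 33, false),
  (nat_lit 47, nat_lit 13, false),
  (nat_lit 41, nat_lit 34, false),
  (nat_lit 41, nat_lit 37, false),
  (nat_lit 43, nat_lit 36, false),
  (nat_lit 43, nat_lit 34, false),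
  (nat_lit 42, nat_lit 34, false),
  (nat_lit 42, nat_lit 36, false),
  (nat_lit 45, nat_lit 42, false),
  (nat_lit 47, nat_lit 12, false),
  (nat_lit 45, nat_lit 41, false),
  (nat_lit 47, nat_lit 42, false),
  (nat_lit 45, nat_lit 34, false),
  (nat_lit 42, nat_lit 41, false),
  (nat_lit 47, nat_lit 10, false),
  (nat_lit 40, nat_lit 35, false),
  (nat_lit 46, nat_lit 41, false),
  (nat_lit 47, nat_lit 43, false),
  (nat_lit 43, nat_lit 41, false),
  (nat_lit 46, nat_lit 43, false),
  (nat_lit 43, nat_lit 42, false),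
  (nat_lit 41, nat_lit 33, false),
  (nat_lit 36, nat_lit 35, false),
  (nat_lit 41, nat_lit 35, false),
  (nat_lit 30, nat_lit 11, false),
  (nat_lit 42, nat_lit 33, false),
  (nat_lit 47, nat_lit 29, false),
  (nat_lit 43, nat_lit 13, false),
  (nat_lit 46, nat_lit 11, false),
  (nat_lit 43, nat_lit 33, false),
  (nat_lit 45, nat_lit 12, false),
  (nat_lit 44, nat_lit 24, false),
  (nat_lit 45, nat_lit 27, false),
  (nat_lit 46, nat_lit 28, false),
  (nat_lit 25, nat_lit 9, false),
  (nat_lit 30, nat_lit 14, false),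
  (nat_lit 44, nat_lit 29, false),
  (nat_lit 46, nat_lit 9, false),
  (nat_lit 45, nat_lit 11, false),
  (nat_lit 35, nat_lit 34, false),
  (nat_lit 40, nat_lit 34, false),
  (nat_lit 39, nat_lit 24, false),
  (nat_lit 28, nat_lit 25, false),
  (nat_lit 29, nat_lit 24, false),
  (nat_lit 45, nat_lit 8, false),
  (nat_lit 30, nat_lit 28, false),
  (nat_lit 46, nat_lit 27, false),
  (nat_lit 24, nat_lit 10, false),
  (nat_lit 31, nat_lit 12, false),
  (nat_lit 36, nat_lit 34, false),
  (nat_lit 47, nat_lit 27, false),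
  (nat_lit 26, nat_lit 10, false),
  (nat_lit 44, nat_lit 28, false),
  (nat_lit 44, nat_lit 25, false),
  (nat_lit 30, nat_lit 27, false),
  (nat_lit 38, nat_lit 14, false),
  (nat_lit 31, nat_lit 29, false),
  (nat_lit 37, nat_lit 14, false),
  (nat_lit 37, nat_lit 33, false),
  (nat_lit 44, nat_lit 30, false),
  (nat_lit 31, nat_lit 14, false),
  (nat_lit 29, nat_lit 26, false),
  (nat_lit 36, nat_lit 31, false),
  (nat_lit 39, nat_lit 14, false),
  (nat_lit 38, nat_lit 33, false),
  (nat_lit 39, nat_lit 33, false),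
  (nat_lit 25, nat_lit 13, false),
  (nat_lit 44, nat_lit 27, false),
  (nat_lit 45, nat_lit 28, false),
  (nat_lit 38, nat_lit 26, false),
  (nat_lit 40, nat_lit 24, false),
  (nat_lit 44, nat_lit 26, false),
  (nat_lit 45, nat_lit 29, false),
  (nat_lit 47, nat_lit 28, false),
  (nat_lit 24, nat_lit 12, false),
  (nat_lit 44, nat_lit 31, false),
  (nat_lit 46, nat_lit 29, false),
  (nat_lit 47, nat_lit 20, false),
  (nat_lit 32, nat_lit 13, false),
  (nat_lit 40, nat_lit 13, false),
  (nat_lit 31, nat_lit 27, false),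
  (nat_lit 47, nat_lit 25, false)]

def S1 : List (Nat × Nat × Bool) := [
  (nat_lit 39, nat_lit 30, false),
  (nat_lit 41, nat_lit 28, false),
  (nat_lit 43, nat_lit 29, false),
  (nat_lit 46, nat_lit 20, false),
  (nat_lit 26, nat_lit 13, false),
  (nat_lit 42, nat_lit 29, false),
  (nat_lit 47, nat_lit 19, false),
  (nat_lit 38, nat_lit 30, false),
  (nat_lit 40, nat_lit 25, false),
  (nat_lit 36, nat_lit 13, false),
  (nat_lit 42, nat_lit 12, false),
  (nat_lit 32, nat_lit 29, false),
  (nat_lit 35, nat_lit 13, false),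
  (nat_lit 44, nat_lit 32, false),
  (nat_lit 32, nat_lit 14, false),
  (nat_lit 36, nat_lit 32, false),
  (nat_lit 39, nat_lit 31, false),
  (nat_lit 29, nat_lit 28, false),
  (nat_lit 37, nat_lit 32, false),
  (nat_lit 28, nat_lit 27, false),
  (nat_lit 32, nat_lit 28, false),
  (nat_lit 43, nat_lit 28, false),
  (nat_lit 37, nat_lit 31, false),
  (nat_lit 38, nat_lit 24, false),
  (nat_lit 38, nat_lit 31, false),
  (nat_lit 38, nat_lit 32, false),
  (nat_lit 39, nat_lit 32, false),
  (nat_lit 40, nat_lit 26, false),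
  (nat_lit 41, nat_lit 27, false),
  (nat_lit 43, nat_lit 7, false),
  (nat_lit 42, nat_lit 24, false),
  (nat_lit 47, nat_lit 30, false),
  (nat_lit 37, nat_lit 30, false),
  (nat_lit 13, nat_lit 12, false),
  (nat_lit 30, nat_lit 29, false),
  (nat_lit 45, nat_lit 24, false),
  (nat_lit 35, nat_lit 32, false),
  (nat_lit 29, nat_lit 25, false),
  (nat_lit 29, nat_lit 27, false),
  (nat_lit 42, nat_lit 27, false),
  (nat_lit 36, nat_lit 12, false),
  (nat_lit 42, nat_lit 10, false),
  (nat_lit 43, nat_lit 9, false),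
  (nat_lit 43, nat_lit 10, false),
  (nat_lit 28, nat_lit 26, false),
  (nat_lit 36, nat_lit 24, false),
  (nat_lit 40, nat_lit 12, false),
  (nat_lit 46, nat_lit 32, false),
  (nat_lit 39, nat_lit 25, false),
  (nat_lit 39, nat_lit 26, false),
  (nat_lit 45, nat_lit 30, false),
  (nat_lit 46, nat_lit 18, false),
  (nat_lit 46, nat_lit 26, false),
  (nat_lit 46, nat_lit 31, false),
  (nat_lit 47, nat_lit 32, false),
  (nat_lit 40, nat_lit 11, false),
  (nat_lit 43, nat_lit 24, false),
  (nat_lit 45, nat_lit 31, false),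
  (nat_lit 47, nat_lit 31, false),
  (nat_lit 40, nat_lit 31, false),
  (nat_lit 41, nat_lit 8, false),
  (nat_lit 42, nat_lit 7, false),
  (nat_lit 27, nat_lit 24, false),
  (nat_lit 42, nat_lit 26, false),
  (nat_lit 45, nat_lit 19, false),
  (nat_lit 46, nat_lit 25, false),
  (nat_lit 47, nat_lit 26, false),
  (nat_lit 39, nat_lit 9, false),
  (nat_lit 40, nat_lit 32, false),
  (nat_lit 41, nat_lit 11, false),
  (nat_lit 42, nat_lit 8, false),
  (nat_lit 31, nat_lit 28, false),
  (nat_lit 44, nat_lit 20, false),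
  (nat_lit 45, nat_lit 18, false),
  (nat_lit 36, nat_lit 26, false),
  (nat_lit 38, nat_lit 10, false),
  (nat_lit 39, nat_lit 10, false),
  (nat_lit 40, nat_lit 30, false),
  (nat_lit 41, nat_lit 25, false),
  (nat_lit 41, nat_lit 30, false),
  (nat_lit 42, nat_lit 31, false),
  (nat_lit 47, nat_lit 24, false),
  (nat_lit 41, nat_lit 7, false),
  (nat_lit 43, nat_lit 26, false),
  (nat_lit 46, nat_lit 30, false),
  (nat_lit 41, nat_lit 21, false),
  (nat_lit 43, nat_lit 25, false),
  (nat_lit 12, nat_lit 1, false),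
  (nat_lit 34, nat_lit 15, false),
  (nat_lit 35, nat_lit 25, false),
  (nat_lit 36, nat_lit 17, false),
  (nat_lit 36, nat_lit 25, false),
  (nat_lit 12, nat_lit 11, false),
  (nat_lit 45, nat_lit 32, false),
  (nat_lit 17, nat_lit 7, false),
  (nat_lit 22, nat_lit 8, false),
  (nat_lit 41, nat_lit 9, false),
  (nat_lit 26, nat_lit 20, false),
  (nat_lit 41, nat_lit 23, false),
  (nat_lit 43, nat_lit 20, false),
  (nat_lit 11, nat_lit 0, false),
  (nat_lit 13, nat_lit 11, false),
  (nat_lit 24, nat_lit 19, false),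
  (nat_lit 25, nat_lit 20, false),
  (nat_lit 32, nat_lit 27, false),
  (nat_lit 41, nat_lit 16, false),
  (nat_lit 13, nat_lit 2, false),
  (nat_lit 21, nat_lit 8, false),
  (nat_lit 35, nat_lit 16, false),
  (nat_lit 41, nat_lit 15, false),
  (nat_lit 41, nat_lit 20, false),
  (nat_lit 43, nat_lit 32, false),
  (nat_lit 44, nat_lit 19, false),
  (nat_lit 16, nat_lit 7, false),
  (nat_lit 35, nat_lit 26, false),
  (nat_lit 33, nat_lit 7, false),
  (nat_lit 34, nat_lit 12, false),
  (nat_lit 42, nat_lit 22, false),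
  (nat_lit 42, nat_lit 17, false),
  (nat_lit 43, nat_lit 16, false),
  (nat_lit 44, nat_lit 22, false),
  (nat_lit 31, nat_lit 24, false),
  (nat_lit 42, nat_lit 15, false),
  (nat_lit 43, nat_lit 19, false),
  (nat_lit 44, nat_lit 21, false),
  (nat_lit 14, nat_lit 10, false),
  (nat_lit 24, nat_lit 22, false),
  (nat_lit 42, nat_lit 18, false),
  (nat_lit 42, nat_lit 19, false),
  (nat_lit 43, nat_lit 18, false),
  (nat_lit 44, nat_lit 18, false),
  (nat_lit 17, nat_lit 10, false),
  (nat_lit 39, nat_lit 16, false),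
  (nat_lit 24, nat_lit 13, false),
  (nat_lit 24, nat_lit 14, false),
  (nat_lit 26, nat_lit 25, false),
  (nat_lit 30, nat_lit 9, false),
  (nat_lit 31, nat_lit 10, false),
  (nat_lit 41, nat_lit 18, false),
  (nat_lit 41, nat_lit 19, false),
  (nat_lit 42, nat_lit 20, false),
  (nat_lit 9, nat_lit 2, false),
  (nat_lit 14, nat_lit 4, false),
  (nat_lit 15, nat_lit 8, false),
  (nat_lit 16, nat_lit 9, false),
  (nat_lit 23, nat_lit 9, false),
  (nat_lit 34, nat_lit 31, false),
  (nat_lit 44, nat_lit 17, false),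
  (nat_lit 8, nat_lit 4, false),
  (nat_lit 35, nat_lit 30, false),
  (nat_lit 24, nat_lit 17, false),
  (nat_lit 25, nat_lit 11, false),
  (nat_lit 26, nat_lit 12, false),
  (nat_lit 26, nat_lit 24, false),
  (nat_lit 43, nat_lit 17, false),
  (nat_lit 44, nat_lit 16, false),
  (nat_lit 44, nat_lit 23, false),
  (nat_lit 10, nat_lit 2, false),
  (nat_lit 15, nat_lit 7, false),
  (nat_lit 34, nat_lit 30, false),
  (nat_lit 39, nat_lit 17, false),
  (nat_lit 33, nat_lit 10, false),
  (nat_lit 34, nat_lit 11, false),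
  (nat_lit 44, nat_lit 15, false),
  (nat_lit 28, nat_lit 20, false),
  (nat_lit 30, nat_lit 18, false),
  (nat_lit 31, nat_lit 13, false),
  (nat_lit 31, nat_lit 30, false),
  (nat_lit 8, nat_lit 1, false),
  (nat_lit 35, nat_lit 11, false),
  (nat_lit 37, nat_lit 25, false),
  (nat_lit 10, nat_lit 9, false),
  (nat_lit 24, nat_lit 20, false),
  (nat_lit 29, nat_lit 20, false),
  (nat_lit 31, nat_lit 19, false),
  (nat_lit 32, nat_lit 10, false),
  (nat_lit 32, nat_lit 25, false),
  (nat_lit 47, nat_lit 17, false),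
  (nat_lit 7, nat_lit 2, false),
  (nat_lit 9, nat_lit 5, false),
  (nat_lit 22, nat_lit 12, false),
  (nat_lit 37, nat_lit 21, false),
  (nat_lit 38, nat_lit 17, false),
  (nat_lit 26, nat_lit 19, false),
  (nat_lit 27, nat_lit 19, false),
  (nat_lit 32, nat_lit 12, false),
  (nat_lit 32, nat_lit 26, false),
  (nat_lit 32, nat_lit 30, false),
  (nat_lit 32, nat_lit 31, false),
  (nat_lit 45, nat_lit 21, false),
  (nat_lit 46, nat_lit 16, false),
  (nat_lit 47, nat_lit 22, false),
  (nat_lit 7, nat_lit 1, false),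
  (nat_lit 8, nat_lit 0, false),
  (nat_lit 14, nat_lit 5, false),
  (nat_lit 14, nat_lit 6, false),
  (nat_lit 21, nat_lit 11, false),
  (nat_lit 30, nat_lit 13, false),
  (nat_lit 33, nat_lit 24, false),
  (nat_lit 36, nat_lit 22, false),
  (nat_lit 25, nat_lit 18, false),
  (nat_lit 26, nat_lit 14, false),
  (nat_lit 28, nat_lit 18, false),
  (nat_lit 29, nat_lit 19, false),
  (nat_lit 7, nat_lit 0, false),
  (nat_lit 14, nat_lit 9, false),
  (nat_lit 9, nat_lit 8, false),
  (nat_lit 29, nat_lit 17, false),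
  (nat_lit 32, nat_lit 20, false),
  (nat_lit 10, nat_lit 1, false),
  (nat_lit 25, nat_lit 14, false),
  (nat_lit 33, nat_lit 16, false),
  (nat_lit 33, nat_lit 17, false),
  (nat_lit 38, nat_lit 22, false),
  (nat_lit 27, nat_lit 18, false),
  (nat_lit 45, nat_lit 22, false),
  (nat_lit 46, nat_lit 21, false),
  (nat_lit 33, nat_lit 25, false),
  (nat_lit 33, nat_lit 26, false),
  (nat_lit 34, nat_lit 22, false),
  (nat_lit 34, nat_lit 24, false),
  (nat_lit 27, nat_lit 3, false),
  (nat_lit 28, nat_lit 3, false),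
  (nat_lit 29, nat_lit 3, false),
  (nat_lit 11, nat_lit 4, false),
  (nat_lit 25, nat_lit 10, false),
  (nat_lit 37, nat_lit 23, false),
  (nat_lit 40, nat_lit 22, false),
  (nat_lit 28, nat_lit 16, false),
  (nat_lit 30, nat_lit 8, false),
  (nat_lit 33, nat_lit 9, false),
  (nat_lit 9, nat_lit 0, false),
  (nat_lit 10, nat_lit 6, false),
  (nat_lit 30, nat_lit 12, false),
  (nat_lit 37, nat_lit 9, false),
  (nat_lit 40, nat_lit 21, false),
  (nat_lit 10, nat_lit 8, false),
  (nat_lit 25, nat_lit 16, false),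
  (nat_lit 32, nat_lit 9, false),
  (nat_lit 13, nat_lit 5, false),
  (nat_lit 3, nat_lit 2, false),
  (nat_lit 6, nat_lit 5, false),
  (nat_lit 29, nat_lit 22, false),
  (nat_lit 32, nat_lit 11, false),
  (nat_lit 12, nat_lit 4, false),
  (nat_lit 13, nat_lit 6, false),
  (nat_lit 31, nat_lit 11, false),
  (nat_lit 33, nat_lit 15, false),
  (nat_lit 34, nat_lit 21, false),
  (nat_lit 38, nat_lit 15, false),
  (nat_lit 39, nat_lit 2, false),
  (nat_lit 39, nat_lit 23, false),
  (nat_lit 4, nat_lit 3, false),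
  (nat_lit 26, nat_lit 17, false),
  (nat_lit 27, nat_lit 15, false),
  (nat_lit 31, nat_lit 8, false),
  (nat_lit 45, nat_lit 15, false),
  (nat_lit 46, nat_lit 23, false),
  (nat_lit 23, nat_lit 11, false),
  (nat_lit 23, nat_lit 21, false),
  (nat_lit 41, nat_lit 22, false),
  (nat_lit 13, nat_lit 0, false),
  (nat_lit 14, nat_lit 2, false),
  (nat_lit 35, nat_lit 23, false),
  (nat_lit 38, nat_lit 21, false),
  (nat_lit 40, nat_lit 23, false)]

def S2 : List (Nat × Nat × Bool) := [
  (nat_lit 16, nat_lit 15, false),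
  (nat_lit 18, nat_lit 16, false),
  (nat_lit 19, nat_lit 18, false),
  (nat_lit 20, nat_lit 3, false),
  (nat_lit 20, nat_lit 19, false),
  (nat_lit 27, nat_lit 22, false),
  (nat_lit 30, nat_lit 25, false),
  (nat_lit 45, nat_lit 23, false),
  (nat_lit 14, nat_lit 1, false),
  (nat_lit 14, nat_lit 8, false),
  (nat_lit 26, nat_lit 9, false),
  (nat_lit 35, nat_lit 21, false),
  (nat_lit 37, nat_lit 16, false),
  (nat_lit 38, nat_lit 8, false),
  (nat_lit 3, nat_lit 0, false),
  (nat_lit 3, nat_lit 1, false),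
  (nat_lit 19, nat_lit 17, false),
  (nat_lit 20, nat_lit 17, false),
  (nat_lit 20, nat_lit 18, false),
  (nat_lit 21, nat_lit 18, false),
  (nat_lit 22, nat_lit 19, false),
  (nat_lit 25, nat_lit 3, false),
  (nat_lit 26, nat_lit 7, false),
  (nat_lit 33, nat_lit 8, false),
  (nat_lit 41, nat_lit 17, false),
  (nat_lit 12, nat_lit 0, false),
  (nat_lit 12, nat_lit 6, false),
  (nat_lit 13, nat_lit 1, false),
  (nat_lit 13, nat_lit 4, false),
  (nat_lit 24, nat_lit 8, false),
  (nat_lit 37, nat_lit 8, false),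
  (nat_lit 11, nat_lit 7, false),
  (nat_lit 24, nat_lit 3, false),
  (nat_lit 25, nat_lit 7, false),
  (nat_lit 27, nat_lit 21, false),
  (nat_lit 30, nat_lit 3, false),
  (nat_lit 30, nat_lit 21, false),
  (nat_lit 33, nat_lit 3, false),
  (nat_lit 42, nat_lit 21, false),
  (nat_lit 11, nat_lit 1, false),
  (nat_lit 14, nat_lit 0, false),
  (nat_lit 37, nat_lit 15, false),
  (nat_lit 15, nat_lit 1, false),
  (nat_lit 17, nat_lit 16, false),
  (nat_lit 18, nat_lit 3, false),
  (nat_lit 18, nat_lit 15, false),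
  (nat_lit 19, nat_lit 3, false),
  (nat_lit 20, nat_lit 16, false),
  (nat_lit 23, nat_lit 18, false),
  (nat_lit 25, nat_lit 2, false),
  (nat_lit 28, nat_lit 21, false),
  (nat_lit 30, nat_lit 23, false),
  (nat_lit 31, nat_lit 22, false),
  (nat_lit 31, nat_lit 26, false),
  (nat_lit 32, nat_lit 24, false),
  (nat_lit 42, nat_lit 16, false),
  (nat_lit 43, nat_lit 2, false),
  (nat_lit 43, nat_lit 23, false),
  (nat_lit 11, nat_lit 2, false),
  (nat_lit 24, nat_lit 7, false),
  (nat_lit 33, nat_lit 23, false),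
  (nat_lit 5, nat_lit 3, false),
  (nat_lit 6, nat_lit 4, false),
  (nat_lit 17, nat_lit 15, false),
  (nat_lit 19, nat_lit 15, false),
  (nat_lit 25, nat_lit 23, false),
  (nat_lit 26, nat_lit 3, false),
  (nat_lit 27, nat_lit 0, false),
  (nat_lit 27, nat_lit 4, false),
  (nat_lit 11, nat_lit 5, false),
  (nat_lit 11, nat_lit 6, false),
  (nat_lit 15, nat_lit 11, false),
  (nat_lit 33, nat_lit 21, false),
  (nat_lit 36, nat_lit 15, false),
  (nat_lit 36, nat_lit 16, false),
  (nat_lit 40, nat_lit 4, false),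
  (nat_lit 1, nat_lit 0, false),
  (nat_lit 5, nat_lit 4, false),
  (nat_lit 12, nat_lit 7, false),
  (nat_lit 15, nat_lit 0, false),
  (nat_lit 16, nat_lit 2, false),
  (nat_lit 21, nat_lit 3, false),
  (nat_lit 27, nat_lit 1, false),
  (nat_lit 27, nat_lit 23, false),
  (nat_lit 28, nat_lit 2, false),
  (nat_lit 28, nat_lit 23, false),
  (nat_lit 31, nat_lit 3, false),
  (nat_lit 43, nat_lit 15, false),
  (nat_lit 45, nat_lit 4, false),
  (nat_lit 12, nat_lit 5, false),
  (nat_lit 16, nat_lit 13, false),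
  (nat_lit 22, nat_lit 11, false),
  (nat_lit 34, nat_lit 23, false),
  (nat_lit 37, nat_lit 22, false),
  (nat_lit 39, nat_lit 5, false),
  (nat_lit 20, nat_lit 5, false),
  (nat_lit 21, nat_lit 4, false),
  (nat_lit 21, nat_lit 15, false),
  (nat_lit 22, nat_lit 3, false),
  (nat_lit 28, nat_lit 0, false),
  (nat_lit 29, nat_lit 2, false),
  (nat_lit 9, nat_lit 4, false),
  (nat_lit 10, nat_lit 0, false),
  (nat_lit 12, nat_lit 2, false),
  (nat_lit 15, nat_lit 12, false),
  (nat_lit 16, nat_lit 11, false),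
  (nat_lit 17, nat_lit 12, false),
  (nat_lit 21, nat_lit 14, false),
  (nat_lit 34, nat_lit 0, false),
  (nat_lit 34, nat_lit 1, false),
  (nat_lit 35, nat_lit 2, false),
  (nat_lit 39, nat_lit 6, false),
  (nat_lit 18, nat_lit 0, false),
  (nat_lit 18, nat_lit 4, false),
  (nat_lit 19, nat_lit 1, false),
  (nat_lit 20, nat_lit 2, false),
  (nat_lit 22, nat_lit 21, false),
  (nat_lit 23, nat_lit 16, false),
  (nat_lit 23, nat_lit 20, false),
  (nat_lit 26, nat_lit 2, false),
  (nat_lit 28, nat_lit 5, false),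
  (nat_lit 29, nat_lit 1, false),
  (nat_lit 32, nat_lit 2, false),
  (nat_lit 41, nat_lit 0, false),
  (nat_lit 42, nat_lit 1, false),
  (nat_lit 10, nat_lit 4, false),
  (nat_lit 10, nat_lit 5, false),
  (nat_lit 13, nat_lit 7, false),
  (nat_lit 17, nat_lit 9, false),
  (nat_lit 21, nat_lit 9, false),
  (nat_lit 21, nat_lit 12, false),
  (nat_lit 22, nat_lit 10, false),
  (nat_lit 22, nat_lit 14, false),
  (nat_lit 33, nat_lit 0, false),
  (nat_lit 33, nat_lit 1, false),
  (nat_lit 33, nat_lit 2, false),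
  (nat_lit 33, nat_lit 22, false),
  (nat_lit 34, nat_lit 4, false),
  (nat_lit 34, nat_lit 16, false),
  (nat_lit 35, nat_lit 15, false),
  (nat_lit 35, nat_lit 17, false),
  (nat_lit 37, nat_lit 4, false),
  (nat_lit 38, nat_lit 4, false),
  (nat_lit 38, nat_lit 6, false),
  (nat_lit 40, nat_lit 5, false),
  (nat_lit 40, nat_lit 6, false),
  (nat_lit 2, nat_lit 0, false),
  (nat_lit 2, nat_lit 1, false),
  (nat_lit 17, nat_lit 2, false),
  (nat_lit 19, nat_lit 4, false),
  (nat_lit 20, nat_lit 6, false),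
  (nat_lit 21, nat_lit 19, false),
  (nat_lit 22, nat_lit 18, false),
  (nat_lit 23, nat_lit 3, false),
  (nat_lit 24, nat_lit 1, false),
  (nat_lit 25, nat_lit 17, false),
  (nat_lit 30, nat_lit 4, false),
  (nat_lit 7, nat_lit 4, false),
  (nat_lit 15, nat_lit 9, false),
  (nat_lit 15, nat_lit 10, false),
  (nat_lit 16, nat_lit 8, false),
  (nat_lit 16, nat_lit 10, false),
  (nat_lit 17, nat_lit 13, false),
  (nat_lit 21, nat_lit 7, false),
  (nat_lit 23, nat_lit 13, false),
  (nat_lit 23, nat_lit 14, false),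
  (nat_lit 35, nat_lit 0, false),
  (nat_lit 35, nat_lit 5, false),
  (nat_lit 37, nat_lit 5, false),
  (nat_lit 38, nat_lit 1, false),
  (nat_lit 5, nat_lit 2, false),
  (nat_lit 6, nat_lit 2, false),
  (nat_lit 6, nat_lit 3, false),
  (nat_lit 16, nat_lit 0, false),
  (nat_lit 18, nat_lit 5, false),
  (nat_lit 19, nat_lit 6, false),
  (nat_lit 22, nat_lit 4, false),
  (nat_lit 24, nat_lit 2, false),
  (nat_lit 24, nat_lit 6, false),
  (nat_lit 24, nat_lit 15, false),
  (nat_lit 27, nat_lit 5, false),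
  (nat_lit 29, nat_lit 6, false),
  (nat_lit 30, nat_lit 5, false),
  (nat_lit 34, nat_lit 7, false),
  (nat_lit 46, nat_lit 5, false),
  (nat_lit 7, nat_lit 5, false),
  (nat_lit 7, nat_lit 6, false),
  (nat_lit 8, nat_lit 2, false),
  (nat_lit 8, nat_lit 5, false),
  (nat_lit 8, nat_lit 6, false),
  (nat_lit 9, nat_lit 6, false),
  (nat_lit 17, nat_lit 8, false),
  (nat_lit 22, nat_lit 7, false),
  (nat_lit 23, nat_lit 8, false),
  (nat_lit 34, nat_lit 17, false),
  (nat_lit 35, nat_lit 7, false),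
  (nat_lit 36, nat_lit 1, false),
  (nat_lit 36, nat_lit 2, false),
  (nat_lit 36, nat_lit 6, false),
  (nat_lit 36, nat_lit 7, false),
  (nat_lit 15, nat_lit 2, false),
  (nat_lit 15, nat_lit 3, false),
  (nat_lit 16, nat_lit 1, false),
  (nat_lit 17, nat_lit 0, false),
  (nat_lit 17, nat_lit 1, false),
  (nat_lit 23, nat_lit 5, false),
  (nat_lit 25, nat_lit 5, false),
  (nat_lit 26, nat_lit 1, false),
  (nat_lit 26, nat_lit 16, false),
  (nat_lit 27, nat_lit 6, false),
  (nat_lit 28, nat_lit 4, false),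
  (nat_lit 29, nat_lit 4, false),
  (nat_lit 30, nat_lit 22, false),
  (nat_lit 31, nat_lit 4, false),
  (nat_lit 31, nat_lit 6, false),
  (nat_lit 9, nat_lit 1, false),
  (nat_lit 23, nat_lit 7, false),
  (nat_lit 37, nat_lit 0, false),
  (nat_lit 16, nat_lit 3, false),
  (nat_lit 21, nat_lit 1, false),
  (nat_lit 22, nat_lit 0, false),
  (nat_lit 23, nat_lit 2, false),
  (nat_lit 25, nat_lit 0, false),
  (nat_lit 26, nat_lit 6, false),
  (nat_lit 31, nat_lit 1, false),
  (nat_lit 31, nat_lit 21, false),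
  (nat_lit 32, nat_lit 3, false),
  (nat_lit 32, nat_lit 4, false),
  (nat_lit 4, nat_lit 0, false),
  (nat_lit 4, nat_lit 1, false),
  (nat_lit 5, nat_lit 0, false),
  (nat_lit 6, nat_lit 1, false),
  (nat_lit 15, nat_lit 4, false),
  (nat_lit 16, nat_lit 5, false),
  (nat_lit 17, nat_lit 3, false),
  (nat_lit 17, nat_lit 6, false),
  (nat_lit 18, nat_lit 1, false),
  (nat_lit 18, nat_lit 2, false),
  (nat_lit 19, nat_lit 0, false),
  (nat_lit 19, nat_lit 2, false),
  (nat_lit 20, nat_lit 0, false),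
  (nat_lit 21, nat_lit 5, false),
  (nat_lit 22, nat_lit 6, false),
  (nat_lit 22, nat_lit 15, false),
  (nat_lit 23, nat_lit 4, false),
  (nat_lit 28, nat_lit 6, false),
  (nat_lit 29, nat_lit 5, false),
  (nat_lit 32, nat_lit 5, false),
  (nat_lit 32, nat_lit 6, false),
  (nat_lit 32, nat_lit 23, false),
  (nat_lit 47, nat_lit 6, false),
  (nat_lit 41, nat_lit 29, false),
  (nat_lit 42, nat_lit 28, false),
  (nat_lit 47, nat_lit 18, false),
  (nat_lit 43, nat_lit 27, false),
  (nat_lit 34, nat_lit 25, false),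
  (nat_lit 37, nat_lit 24, false),
  (nat_lit 35, nat_lit 24, false),
  (nat_lit 45, nat_lit 20, false)]

def S3 : List (Nat × Nat × Bool) := [
  (nat_lit 38, nat_lit 25, false),
  (nat_lit 43, nat_lit 12, false),
  (nat_lit 41, nat_lit 14, false),
  (nat_lit 41, nat_lit 13, false),
  (nat_lit 45, nat_lit 10, false),
  (nat_lit 33, nat_lit 30, false),
  (nat_lit 37, nat_lit 26, false),
  (nat_lit 47, nat_lit 9, false),
  (nat_lit 34, nat_lit 26, false),
  (nat_lit 47, nat_lit 11, false),
  (nat_lit 36, nat_lit 30, false),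
  (nat_lit 46, nat_lit 10, false),
  (nat_lit 42, nat_lit 14, false),
  (nat_lit 42, nat_lit 13, false),
  (nat_lit 46, nat_lit 12, false),
  (nat_lit 33, nat_lit 31, false),
  (nat_lit 43, nat_lit 14, false),
  (nat_lit 35, nat_lit 31, false),
  (nat_lit 45, nat_lit 13, false),
  (nat_lit 33, nat_lit 32, false),
  (nat_lit 28, nat_lit 24, false),
  (nat_lit 34, nat_lit 32, false),
  (nat_lit 27, nat_lit 25, false),
  (nat_lit 32, nat_lit 19, false),
  (nat_lit 27, nat_lit 26, false),
  (nat_lit 30, nat_lit 20, false),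
  (nat_lit 41, nat_lit 12, false),
  (nat_lit 44, nat_lit 6, false),
  (nat_lit 31, nat_lit 20, false),
  (nat_lit 35, nat_lit 22, false),
  (nat_lit 47, nat_lit 3, false),
  (nat_lit 42, nat_lit 11, false),
  (nat_lit 36, nat_lit 21, false),
  (nat_lit 45, nat_lit 9, false),
  (nat_lit 47, nat_lit 8, false),
  (nat_lit 44, nat_lit 5, false),
  (nat_lit 38, nat_lit 23, false),
  (nat_lit 46, nat_lit 8, false),
  (nat_lit 46, nat_lit 3, false),
  (nat_lit 39, nat_lit 22, false),
  (nat_lit 39, nat_lit 21, false),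
  (nat_lit 43, nat_lit 11, false),
  (nat_lit 37, nat_lit 17, false),
  (nat_lit 41, nat_lit 10, false),
  (nat_lit 38, nat_lit 16, false),
  (nat_lit 44, nat_lit 4, false),
  (nat_lit 42, nat_lit 9, false),
  (nat_lit 36, nat_lit 23, false),
  (nat_lit 45, nat_lit 7, false),
  (nat_lit 28, nat_lit 22, false),
  (nat_lit 45, nat_lit 3, false),
  (nat_lit 29, nat_lit 21, false),
  (nat_lit 31, nat_lit 18, false),
  (nat_lit 40, nat_lit 15, false),
  (nat_lit 30, nat_lit 19, false),
  (nat_lit 43, nat_lit 8, false),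
  (nat_lit 30, nat_lit 10, false),
  (nat_lit 37, nat_lit 6, false),
  (nat_lit 39, nat_lit 15, false),
  (nat_lit 32, nat_lit 18, false),
  (nat_lit 29, nat_lit 23, false),
  (nat_lit 46, nat_lit 7, false),
  (nat_lit 38, nat_lit 5, false),
  (nat_lit 31, nat_lit 9, false),
  (nat_lit 47, nat_lit 7, false),
  (nat_lit 40, nat_lit 16, false),
  (nat_lit 41, nat_lit 24, false),
  (nat_lit 40, nat_lit 17, false),
  (nat_lit 32, nat_lit 8, false),
  (nat_lit 39, nat_lit 4, false),
  (nat_lit 25, nat_lit 19, false),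
  (nat_lit 28, nat_lit 17, false),
  (nat_lit 26, nat_lit 18, false),
  (nat_lit 44, nat_lit 2, false),
  (nat_lit 46, nat_lit 24, false),
  (nat_lit 29, nat_lit 16, false),
  (nat_lit 43, nat_lit 3, false),
  (nat_lit 24, nat_lit 18, false),
  (nat_lit 29, nat_lit 15, false),
  (nat_lit 25, nat_lit 12, false),
  (nat_lit 36, nat_lit 4, false),
  (nat_lit 24, nat_lit 11, false),
  (nat_lit 35, nat_lit 6, false),
  (nat_lit 43, nat_lit 31, false),
  (nat_lit 45, nat_lit 25, false),
  (nat_lit 26, nat_lit 11, false),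
  (nat_lit 36, nat_lit 5, false),
  (nat_lit 42, nat_lit 3, false),
  (nat_lit 44, nat_lit 1, false),
  (nat_lit 41, nat_lit 3, false),
  (nat_lit 44, nat_lit 0, false),
  (nat_lit 38, nat_lit 2, false),
  (nat_lit 24, nat_lit 9, false),
  (nat_lit 42, nat_lit 25, false),
  (nat_lit 41, nat_lit 26, false),
  (nat_lit 31, nat_lit 7, false),
  (nat_lit 44, nat_lit 40, false),
  (nat_lit 40, nat_lit 1, false),
  (nat_lit 45, nat_lit 26, false),
  (nat_lit 44, nat_lit 39, false),
  (nat_lit 32, nat_lit 7, false),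
  (nat_lit 40, nat_lit 2, false),
  (nat_lit 41, nat_lit 31, false),
  (nat_lit 34, nat_lit 6, false),
  (nat_lit 30, nat_lit 7, false),
  (nat_lit 41, nat_lit 32, false),
  (nat_lit 26, nat_lit 8, false),
  (nat_lit 22, nat_lit 13, false),
  (nat_lit 44, nat_lit 37, false),
  (nat_lit 40, nat_lit 0, false),
  (nat_lit 44, nat_lit 38, false),
  (nat_lit 39, nat_lit 1, false),
  (nat_lit 42, nat_lit 30, false),
  (nat_lit 43, nat_lit 30, false),
  (nat_lit 37, nat_lit 34, false),
  (nat_lit 25, nat_lit 24, false),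
  (nat_lit 42, nat_lit 32, false),
  (nat_lit 40, nat_lit 14, false),
  (nat_lit 38, nat_lit 34, false),
  (nat_lit 34, nat_lit 5, false),
  (nat_lit 21, nat_lit 13, false),
  (nat_lit 35, nat_lit 4, false),
  (nat_lit 23, nat_lit 12, false),
  (nat_lit 17, nat_lit 14, false),
  (nat_lit 39, nat_lit 13, false),
  (nat_lit 44, nat_lit 34, false),
  (nat_lit 25, nat_lit 8, false),
  (nat_lit 44, nat_lit 35, false),
  (nat_lit 33, nat_lit 6, false),
  (nat_lit 37, nat_lit 35, false),
  (nat_lit 39, nat_lit 0, false),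
  (nat_lit 44, nat_lit 36, false),
  (nat_lit 21, nat_lit 20, false),
  (nat_lit 22, nat_lit 20, false),
  (nat_lit 27, nat_lit 16, false),
  (nat_lit 27, nat_lit 17, false),
  (nat_lit 40, nat_lit 37, false),
  (nat_lit 23, nat_lit 19, false),
  (nat_lit 28, nat_lit 15, false),
  (nat_lit 37, nat_lit 11, false),
  (nat_lit 38, nat_lit 36, false),
  (nat_lit 30, nat_lit 24, false),
  (nat_lit 38, nat_lit 12, false),
  (nat_lit 39, nat_lit 35, false),
  (nat_lit 34, nat_lit 33, false),
  (nat_lit 39, nat_lit 36, false),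
  (nat_lit 40, nat_lit 38, false),
  (nat_lit 47, nat_lit 16, false),
  (nat_lit 35, nat_lit 33, false),
  (nat_lit 46, nat_lit 15, false),
  (nat_lit 47, nat_lit 1, false),
  (nat_lit 42, nat_lit 23, false),
  (nat_lit 36, nat_lit 33, false),
  (nat_lit 40, nat_lit 39, false),
  (nat_lit 14, nat_lit 13, false),
  (nat_lit 14, nat_lit 12, false),
  (nat_lit 45, nat_lit 16, false),
  (nat_lit 37, nat_lit 2, false),
  (nat_lit 16, nat_lit 14, false),
  (nat_lit 43, nat_lit 21, false),
  (nat_lit 33, nat_lit 5, false),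
  (nat_lit 14, nat_lit 11, false),
  (nat_lit 23, nat_lit 10, false),
  (nat_lit 18, nat_lit 6, false),
  (nat_lit 29, nat_lit 0, false),
  (nat_lit 47, nat_lit 15, false)]

def S4 : List (Nat × Nat × Bool) := [
  (nat_lit 20, nat_lit 4, false),
  (nat_lit 27, nat_lit 2, false),
  (nat_lit 19, nat_lit 5, false),
  (nat_lit 28, nat_lit 1, false),
  (nat_lit 45, nat_lit 17, false),
  (nat_lit 31, nat_lit 25, false),
  (nat_lit 15, nat_lit 14, false),
  (nat_lit 33, nat_lit 4, false),
  (nat_lit 37, nat_lit 1, false),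
  (nat_lit 21, nat_lit 10, false),
  (nat_lit 38, nat_lit 0, false),
  (nat_lit 22, nat_lit 9, false),
  (nat_lit 46, nat_lit 17, false),
  (nat_lit 44, nat_lit 33, false),
  (nat_lit 43, nat_lit 22, false),
  (nat_lit 46, nat_lit 2, false),
  (nat_lit 30, nat_lit 26, false),
  (nat_lit 47, nat_lit 2, false),
  (nat_lit 32, nat_lit 16, false),
  (nat_lit 26, nat_lit 22, false),
  (nat_lit 31, nat_lit 17, false),
  (nat_lit 42, nat_lit 6, false),
  (nat_lit 46, nat_lit 22, false),
  (nat_lit 39, nat_lit 29, false),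
  (nat_lit 36, nat_lit 10, false),
  (nat_lit 38, nat_lit 29, false),
  (nat_lit 40, nat_lit 29, false),
  (nat_lit 13, nat_lit 10, false),
  (nat_lit 12, nat_lit 10, false),
  (nat_lit 43, nat_lit 5, false),
  (nat_lit 36, nat_lit 29, false),
  (nat_lit 35, nat_lit 9, false),
  (nat_lit 29, nat_lit 14, false),
  (nat_lit 28, nat_lit 14, false),
  (nat_lit 13, nat_lit 9, false),
  (nat_lit 37, nat_lit 28, false),
  (nat_lit 26, nat_lit 23, false),
  (nat_lit 27, nat_lit 14, false),
  (nat_lit 39, nat_lit 28, false),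
  (nat_lit 34, nat_lit 8, false),
  (nat_lit 29, nat_lit 13, false),
  (nat_lit 28, nat_lit 13, false),
  (nat_lit 37, nat_lit 27, false),
  (nat_lit 35, nat_lit 28, false),
  (nat_lit 41, nat_lit 5, false),
  (nat_lit 47, nat_lit 21, false),
  (nat_lit 31, nat_lit 23, false),
  (nat_lit 32, nat_lit 21, false),
  (nat_lit 34, nat_lit 27, false),
  (nat_lit 41, nat_lit 4, false),
  (nat_lit 47, nat_lit 23, false),
  (nat_lit 43, nat_lit 6, false),
  (nat_lit 47, nat_lit 4, false),
  (nat_lit 12, nat_lit 8, false),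
  (nat_lit 40, nat_lit 28, false),
  (nat_lit 47, nat_lit 5, false),
  (nat_lit 15, nat_lit 13, false),
  (nat_lit 35, nat_lit 1, false),
  (nat_lit 36, nat_lit 0, false),
  (nat_lit 32, nat_lit 17, false),
  (nat_lit 16, nat_lit 12, false),
  (nat_lit 17, nat_lit 11, false),
  (nat_lit 34, nat_lit 2, false),
  (nat_lit 38, nat_lit 27, false),
  (nat_lit 27, nat_lit 12, false),
  (nat_lit 45, nat_lit 5, false),
  (nat_lit 46, nat_lit 4, false),
  (nat_lit 46, nat_lit 6, false),
  (nat_lit 11, nat_lit 9, false),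
  (nat_lit 11, nat_lit 8, false),
  (nat_lit 10, nat_lit 7, false),
  (nat_lit 45, nat_lit 6, false),
  (nat_lit 29, nat_lit 12, false),
  (nat_lit 24, nat_lit 16, false),
  (nat_lit 46, nat_lit 0, false),
  (nat_lit 42, nat_lit 4, false),
  (nat_lit 24, nat_lit 21, false),
  (nat_lit 9, nat_lit 7, false),
  (nat_lit 28, nat_lit 11, false),
  (nat_lit 27, nat_lit 11, false),
  (nat_lit 32, nat_lit 22, false),
  (nat_lit 30, nat_lit 15, false),
  (nat_lit 30, nat_lit 16, false),
  (nat_lit 45, nat_lit 1, false),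
  (nat_lit 25, nat_lit 15, false),
  (nat_lit 41, nat_lit 2, false),
  (nat_lit 45, nat_lit 0, false),
  (nat_lit 40, nat_lit 27, false),
  (nat_lit 41, nat_lit 1, false),
  (nat_lit 42, nat_lit 2, false),
  (nat_lit 26, nat_lit 15, false),
  (nat_lit 29, nat_lit 10, false),
  (nat_lit 42, nat_lit 0, false),
  (nat_lit 8, nat_lit 7, false),
  (nat_lit 25, nat_lit 21, false),
  (nat_lit 28, nat_lit 9, false),
  (nat_lit 31, nat_lit 15, false),
  (nat_lit 32, nat_lit 0, false),
  (nat_lit 43, nat_lit 0, false),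
  (nat_lit 43, nat_lit 1, false),
  (nat_lit 45, nat_lit 12, false),
  (nat_lit 35, nat_lit 20, false),
  (nat_lit 14, nat_lit 3, false),
  (nat_lit 36, nat_lit 20, false),
  (nat_lit 20, nat_lit 10, false),
  (nat_lit 27, nat_lit 8, false),
  (nat_lit 32, nat_lit 1, false),
  (nat_lit 25, nat_lit 4, false),
  (nat_lit 20, nat_lit 13, false),
  (nat_lit 19, nat_lit 10, false),
  (nat_lit 30, nat_lit 1, false),
  (nat_lit 34, nat_lit 19, false),
  (nat_lit 19, nat_lit 12, false),
  (nat_lit 20, nat_lit 9, false),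
  (nat_lit 31, nat_lit 0, false),
  (nat_lit 36, nat_lit 19, false),
  (nat_lit 45, nat_lit 11, false),
  (nat_lit 18, nat_lit 9, false),
  (nat_lit 30, nat_lit 2, false),
  (nat_lit 34, nat_lit 18, false),
  (nat_lit 9, nat_lit 3, false),
  (nat_lit 12, nat_lit 3, false),
  (nat_lit 33, nat_lit 20, false),
  (nat_lit 37, nat_lit 18, false),
  (nat_lit 18, nat_lit 11, false),
  (nat_lit 19, nat_lit 8, false),
  (nat_lit 21, nat_lit 6, false),
  (nat_lit 23, nat_lit 17, false),
  (nat_lit 10, nat_lit 3, false),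
  (nat_lit 11, nat_lit 3, false),
  (nat_lit 24, nat_lit 0, false),
  (nat_lit 31, nat_lit 2, false),
  (nat_lit 46, nat_lit 11, false),
  (nat_lit 38, nat_lit 19, false),
  (nat_lit 18, nat_lit 8, false),
  (nat_lit 22, nat_lit 5, false),
  (nat_lit 26, nat_lit 4, false),
  (nat_lit 35, nat_lit 18, false),
  (nat_lit 24, nat_lit 5, false),
  (nat_lit 8, nat_lit 3, false),
  (nat_lit 39, nat_lit 20, false),
  (nat_lit 19, nat_lit 7, false),
  (nat_lit 20, nat_lit 7, false),
  (nat_lit 43, nat_lit 38, false),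
  (nat_lit 13, nat_lit 3, false),
  (nat_lit 25, nat_lit 1, false),
  (nat_lit 46, nat_lit 39, false),
  (nat_lit 18, nat_lit 7, false),
  (nat_lit 26, nat_lit 0, false),
  (nat_lit 23, nat_lit 6, false),
  (nat_lit 41, nat_lit 11, false),
  (nat_lit 47, nat_lit 35, false),
  (nat_lit 23, nat_lit 22, false),
  (nat_lit 45, nat_lit 39, false),
  (nat_lit 42, nat_lit 12, false),
  (nat_lit 7, nat_lit 3, false),
  (nat_lit 21, nat_lit 2, false),
  (nat_lit 13, nat_lit 12, false),
  (nat_lit 42, nat_lit 37, false),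
  (nat_lit 33, nat_lit 19, false),
  (nat_lit 21, nat_lit 17, false),
  (nat_lit 43, nat_lit 10, false),
  (nat_lit 46, nat_lit 38, false),
  (nat_lit 22, nat_lit 2, false),
  (nat_lit 22, nat_lit 16, false),
  (nat_lit 45, nat_lit 38, false),
  (nat_lit 16, nat_lit 4, false),
  (nat_lit 23, nat_lit 1, false),
  (nat_lit 45, nat_lit 35, false),
  (nat_lit 33, nat_lit 7, false),
  (nat_lit 46, nat_lit 14, false),
  (nat_lit 15, nat_lit 5, false),
  (nat_lit 17, nat_lit 4, false),
  (nat_lit 42, nat_lit 10, false),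
  (nat_lit 42, nat_lit 39, false),
  (nat_lit 45, nat_lit 8, false),
  (nat_lit 47, nat_lit 39, false),
  (nat_lit 47, nat_lit 13, false),
  (nat_lit 16, nat_lit 6, false),
  (nat_lit 17, nat_lit 5, false),
  (nat_lit 46, nat_lit 33, false),
  (nat_lit 45, nat_lit 14, false),
  (nat_lit 45, nat_lit 40, false),
  (nat_lit 47, nat_lit 33, false),
  (nat_lit 47, nat_lit 38, false),
  (nat_lit 33, nat_lit 18, false),
  (nat_lit 15, nat_lit 6, false),
  (nat_lit 45, nat_lit 33, false),
  (nat_lit 47, nat_lit 12, false),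
  (nat_lit 41, nat_lit 38, false),
  (nat_lit 47, nat_lit 14, false),
  (nat_lit 12, nat_lit 11, false),
  (nat_lit 46, nat_lit 34, false),
  (nat_lit 46, nat_lit 36, false),
  (nat_lit 47, nat_lit 34, false),
  (nat_lit 46, nat_lit 13, false),
  (nat_lit 41, nat_lit 9, false),
  (nat_lit 43, nat_lit 9, false),
  (nat_lit 45, nat_lit 36, false),
  (nat_lit 46, nat_lit 9, false),
  (nat_lit 41, nat_lit 36, false),
  (nat_lit 43, nat_lit 37, false),
  (nat_lit 46, nat_lit 40, false),
  (nat_lit 43, nat_lit 34, false),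
  (nat_lit 13, nat_lit 11, false),
  (nat_lit 41, nat_lit 37, false),
  (nat_lit 41, nat_lit 40, false),
  (nat_lit 42, nat_lit 40, false),
  (nat_lit 43, nat_lit 40, false),
  (nat_lit 47, nat_lit 40, false),
  (nat_lit 43, nat_lit 13, false),
  (nat_lit 41, nat_lit 8, false),
  (nat_lit 42, nat_lit 8, false),
  (nat_lit 42, nat_lit 35, false),
  (nat_lit 47, nat_lit 37, false),
  (nat_lit 14, nat_lit 10, false),
  (nat_lit 31, nat_lit 29, false),
  (nat_lit 32, nat_lit 14, false),
  (nat_lit 44, nat_lit 32, false),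
  (nat_lit 31, nat_lit 14, false),
  (nat_lit 41, nat_lit 39, false),
  (nat_lit 42, nat_lit 38, false),
  (nat_lit 32, nat_lit 29, false),
  (nat_lit 44, nat_lit 7, false),
  (nat_lit 30, nat_lit 28, false),
  (nat_lit 32, nat_lit 13, false),
  (nat_lit 42, nat_lit 36, false),
  (nat_lit 43, nat_lit 35, false)]

def S5 : List (Nat × Nat × Bool) := [
  (nat_lit 43, nat_lit 36, false),
  (nat_lit 10, nat_lit 9, false),
  (nat_lit 14, nat_lit 9, false),
  (nat_lit 30, nat_lit 9, false),
  (nat_lit 31, nat_lit 12, false),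
  (nat_lit 43, nat_lit 39, false),
  (nat_lit 36, nat_lit 32, false),
  (nat_lit 47, nat_lit 10, false),
  (nat_lit 26, nat_lit 13, false),
  (nat_lit 30, nat_lit 6, false),
  (nat_lit 30, nat_lit 14, false),
  (nat_lit 31, nat_lit 5, false),
  (nat_lit 42, nat_lit 34, false),
  (nat_lit 25, nat_lit 11, false),
  (nat_lit 28, nat_lit 25, false),
  (nat_lit 32, nat_lit 27, false),
  (nat_lit 38, nat_lit 33, false),
  (nat_lit 37, nat_lit 31, false),
  (nat_lit 38, nat_lit 30, false),
  (nat_lit 38, nat_lit 32, false),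
  (nat_lit 30, nat_lit 27, false),
  (nat_lit 32, nat_lit 28, false),
  (nat_lit 34, nat_lit 12, false),
  (nat_lit 37, nat_lit 33, false),
  (nat_lit 39, nat_lit 33, false),
  (nat_lit 44, nat_lit 31, false),
  (nat_lit 45, nat_lit 37, false),
  (nat_lit 46, nat_lit 37, false),
  (nat_lit 9, nat_lit 8, false),
  (nat_lit 24, nat_lit 12, false),
  (nat_lit 36, nat_lit 31, false),
  (nat_lit 38, nat_lit 37, false),
  (nat_lit 41, nat_lit 34, false),
  (nat_lit 44, nat_lit 30, false),
  (nat_lit 46, nat_lit 28, false),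
  (nat_lit 47, nat_lit 32, false),
  (nat_lit 47, nat_lit 36, false),
  (nat_lit 29, nat_lit 26, false),
  (nat_lit 31, nat_lit 27, false),
  (nat_lit 47, nat_lit 29, false),
  (nat_lit 39, nat_lit 30, false),
  (nat_lit 14, nat_lit 8, false),
  (nat_lit 30, nat_lit 29, false),
  (nat_lit 34, nat_lit 30, false),
  (nat_lit 47, nat_lit 46, false),
  (nat_lit 39, nat_lit 31, false),
  (nat_lit 10, nat_lit 8, false),
  (nat_lit 24, nat_lit 8, false),
  (nat_lit 24, nat_lit 13, false),
  (nat_lit 33, nat_lit 24, false),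
  (nat_lit 46, nat_lit 32, false),
  (nat_lit 24, nat_lit 14, false),
  (nat_lit 25, nat_lit 13, false),
  (nat_lit 30, nat_lit 8, false),
  (nat_lit 31, nat_lit 10, false),
  (nat_lit 37, nat_lit 14, false),
  (nat_lit 45, nat_lit 27, false),
  (nat_lit 37, nat_lit 32, false),
  (nat_lit 13, nat_lit 4, false),
  (nat_lit 24, nat_lit 4, false),
  (nat_lit 26, nat_lit 5, false),
  (nat_lit 31, nat_lit 28, false),
  (nat_lit 35, nat_lit 26, false),
  (nat_lit 35, nat_lit 32, false),
  (nat_lit 41, nat_lit 28, false),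
  (nat_lit 41, nat_lit 30, false),
  (nat_lit 43, nat_lit 7, false),
  (nat_lit 45, nat_lit 28, false),
  (nat_lit 46, nat_lit 31, false),
  (nat_lit 46, nat_lit 35, false),
  (nat_lit 17, nat_lit 10, false),
  (nat_lit 25, nat_lit 9, false),
  (nat_lit 26, nat_lit 10, false),
  (nat_lit 29, nat_lit 24, false),
  (nat_lit 30, nat_lit 0, false),
  (nat_lit 31, nat_lit 13, false),
  (nat_lit 31, nat_lit 30, false),
  (nat_lit 34, nat_lit 31, false),
  (nat_lit 41, nat_lit 7, false),
  (nat_lit 42, nat_lit 7, false),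
  (nat_lit 45, nat_lit 30, false),
  (nat_lit 45, nat_lit 32, false),
  (nat_lit 47, nat_lit 27, false),
  (nat_lit 14, nat_lit 7, false),
  (nat_lit 40, nat_lit 13, false),
  (nat_lit 26, nat_lit 12, false),
  (nat_lit 26, nat_lit 14, false),
  (nat_lit 28, nat_lit 27, false),
  (nat_lit 43, nat_lit 41, false),
  (nat_lit 45, nat_lit 29, false),
  (nat_lit 45, nat_lit 31, false),
  (nat_lit 45, nat_lit 41, false),
  (nat_lit 45, nat_lit 44, false),
  (nat_lit 46, nat_lit 27, false),
  (nat_lit 46, nat_lit 41, false),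
  (nat_lit 47, nat_lit 45, false),
  (nat_lit 18, nat_lit 17, false),
  (nat_lit 19, nat_lit 16, false),
  (nat_lit 24, nat_lit 10, false),
  (nat_lit 25, nat_lit 6, false),
  (nat_lit 26, nat_lit 19, false),
  (nat_lit 27, nat_lit 24, false),
  (nat_lit 29, nat_lit 25, false),
  (nat_lit 32, nat_lit 12, false),
  (nat_lit 32, nat_lit 30, false),
  (nat_lit 33, nat_lit 3, false),
  (nat_lit 34, nat_lit 11, false),
  (nat_lit 39, nat_lit 24, false),
  (nat_lit 42, nat_lit 31, false),
  (nat_lit 43, nat_lit 24, false),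
  (nat_lit 43, nat_lit 32, false),
  (nat_lit 44, nat_lit 24, false),
  (nat_lit 46, nat_lit 29, false),
  (nat_lit 46, nat_lit 30, false),
  (nat_lit 47, nat_lit 31, false),
  (nat_lit 47, nat_lit 42, false),
  (nat_lit 20, nat_lit 15, false),
  (nat_lit 28, nat_lit 26, false),
  (nat_lit 31, nat_lit 8, false),
  (nat_lit 33, nat_lit 9, false),
  (nat_lit 35, nat_lit 11, false),
  (nat_lit 36, nat_lit 25, false),
  (nat_lit 38, nat_lit 14, false),
  (nat_lit 38, nat_lit 26, false),
  (nat_lit 41, nat_lit 27, false),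
  (nat_lit 42, nat_lit 24, false),
  (nat_lit 42, nat_lit 29, false),
  (nat_lit 44, nat_lit 29, false),
  (nat_lit 45, nat_lit 18, false),
  (nat_lit 45, nat_lit 19, false),
  (nat_lit 45, nat_lit 42, false),
  (nat_lit 46, nat_lit 18, false),
  (nat_lit 46, nat_lit 45, false),
  (nat_lit 47, nat_lit 28, false),
  (nat_lit 47, nat_lit 43, false),
  (nat_lit 35, nat_lit 13, false),
  (nat_lit 14, nat_lit 2, false),
  (nat_lit 25, nat_lit 18, false),
  (nat_lit 26, nat_lit 25, false),
  (nat_lit 30, nat_lit 11, false),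
  (nat_lit 32, nat_lit 25, false),
  (nat_lit 32, nat_lit 26, false),
  (nat_lit 33, nat_lit 23, false),
  (nat_lit 33, nat_lit 25, false),
  (nat_lit 33, nat_lit 26, false),
  (nat_lit 34, nat_lit 24, false),
  (nat_lit 35, nat_lit 30, false),
  (nat_lit 40, nat_lit 24, false),
  (nat_lit 40, nat_lit 26, false),
  (nat_lit 41, nat_lit 25, false),
  (nat_lit 42, nat_lit 41, false),
  (nat_lit 43, nat_lit 18, false),
  (nat_lit 43, nat_lit 19, false),
  (nat_lit 43, nat_lit 42, false),
  (nat_lit 46, nat_lit 43, false),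
  (nat_lit 46, nat_lit 44, false),
  (nat_lit 47, nat_lit 30, false),
  (nat_lit 28, nat_lit 3, false),
  (nat_lit 36, nat_lit 13, false),
  (nat_lit 11, nat_lit 6, false),
  (nat_lit 12, nat_lit 5, false),
  (nat_lit 13, nat_lit 7, false),
  (nat_lit 14, nat_lit 0, false),
  (nat_lit 14, nat_lit 1, false),
  (nat_lit 18, nat_lit 3, false),
  (nat_lit 20, nat_lit 1, false),
  (nat_lit 22, nat_lit 12, false),
  (nat_lit 23, nat_lit 9, false),
  (nat_lit 24, nat_lit 7, false),
  (nat_lit 25, nat_lit 7, false),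
  (nat_lit 26, nat_lit 7, false),
  (nat_lit 26, nat_lit 24, false),
  (nat_lit 29, nat_lit 3, false),
  (nat_lit 29, nat_lit 28, false),
  (nat_lit 32, nat_lit 24, false),
  (nat_lit 33, nat_lit 10, false),
  (nat_lit 37, nat_lit 9, false),
  (nat_lit 38, nat_lit 15, false),
  (nat_lit 39, nat_lit 38, false),
  (nat_lit 40, nat_lit 25, false),
  (nat_lit 41, nat_lit 35, false),
  (nat_lit 42, nat_lit 18, false),
  (nat_lit 43, nat_lit 26, false),
  (nat_lit 45, nat_lit 24, false),
  (nat_lit 45, nat_lit 34, false),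
  (nat_lit 46, nat_lit 5, false),
  (nat_lit 20, nat_lit 3, false),
  (nat_lit 27, nat_lit 3, false),
  (nat_lit 9, nat_lit 4, false),
  (nat_lit 10, nat_lit 5, false),
  (nat_lit 16, nat_lit 9, false),
  (nat_lit 19, nat_lit 3, false),
  (nat_lit 24, nat_lit 3, false),
  (nat_lit 24, nat_lit 22, false),
  (nat_lit 25, nat_lit 20, false),
  (nat_lit 26, nat_lit 20, false),
  (nat_lit 31, nat_lit 11, false),
  (nat_lit 31, nat_lit 19, false),
  (nat_lit 33, nat_lit 1, false),
  (nat_lit 35, nat_lit 21, false),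
  (nat_lit 36, nat_lit 22, false),
  (nat_lit 37, nat_lit 5, false),
  (nat_lit 39, nat_lit 32, false),
  (nat_lit 39, nat_lit 37, false),
  (nat_lit 40, nat_lit 22, false),
  (nat_lit 40, nat_lit 32, false),
  (nat_lit 40, nat_lit 36, false),
  (nat_lit 41, nat_lit 19, false),
  (nat_lit 41, nat_lit 20, false),
  (nat_lit 42, nat_lit 20, false),
  (nat_lit 43, nat_lit 20, false),
  (nat_lit 43, nat_lit 29, false),
  (nat_lit 44, nat_lit 25, false),
  (nat_lit 45, nat_lit 4, false),
  (nat_lit 45, nat_lit 43, false),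
  (nat_lit 46, nat_lit 20, false),
  (nat_lit 46, nat_lit 25, false),
  (nat_lit 46, nat_lit 26, false),
  (nat_lit 46, nat_lit 42, false),
  (nat_lit 47, nat_lit 19, false),
  (nat_lit 47, nat_lit 24, false),
  (nat_lit 47, nat_lit 26, false),
  (nat_lit 47, nat_lit 41, false),
  (nat_lit 3, nat_lit 2, false),
  (nat_lit 6, nat_lit 4, false),
  (nat_lit 6, nat_lit 5, false),
  (nat_lit 8, nat_lit 6, false),
  (nat_lit 12, nat_lit 7, false),
  (nat_lit 24, nat_lit 19, false),
  (nat_lit 25, nat_lit 14, false),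
  (nat_lit 28, nat_lit 20, false),
  (nat_lit 30, nat_lit 12, false),
  (nat_lit 30, nat_lit 13, false),
  (nat_lit 30, nat_lit 18, false),
  (nat_lit 32, nat_lit 10, false),
  (nat_lit 32, nat_lit 11, false),
  (nat_lit 32, nat_lit 20, false),
  (nat_lit 34, nat_lit 4, false),
  (nat_lit 34, nat_lit 15, false),
  (nat_lit 34, nat_lit 22, false),
  (nat_lit 35, nat_lit 16, false),
  (nat_lit 36, nat_lit 17, false),
  (nat_lit 36, nat_lit 24, false),
  (nat_lit 37, nat_lit 4, false),
  (nat_lit 37, nat_lit 25, false),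
  (nat_lit 37, nat_lit 30, false),
  (nat_lit 38, nat_lit 6, false),
  (nat_lit 38, nat_lit 17, false),
  (nat_lit 38, nat_lit 31, false),
  (nat_lit 39, nat_lit 16, false),
  (nat_lit 39, nat_lit 17, false),
  (nat_lit 40, nat_lit 35, false),
  (nat_lit 41, nat_lit 21, false),
  (nat_lit 41, nat_lit 23, false),
  (nat_lit 41, nat_lit 33, false),
  (nat_lit 42, nat_lit 27, false),
  (nat_lit 43, nat_lit 2, false),
  (nat_lit 43, nat_lit 25, false),
  (nat_lit 43, nat_lit 28, false),
  (nat_lit 43, nat_lit 33, false),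
  (nat_lit 44, nat_lit 26, false),
  (nat_lit 45, nat_lit 15, false),
  (nat_lit 46, nat_lit 16, false),
  (nat_lit 47, nat_lit 20, false),
  (nat_lit 47, nat_lit 25, false),
  (nat_lit 47, nat_lit 44, false)]

def S6 : List (Nat × Nat × Bool) := [
  (nat_lit 5, nat_lit 4, false),
  (nat_lit 9, nat_lit 6, false),
  (nat_lit 10, nat_lit 4, false),
  (nat_lit 11, nat_lit 0, false),
  (nat_lit 11, nat_lit 1, false),
  (nat_lit 11, nat_lit 2, false),
  (nat_lit 11, nat_lit 7, false),
  (nat_lit 12, nat_lit 0, false),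
  (nat_lit 12, nat_lit 1, false),
  (nat_lit 12, nat_lit 2, false),
  (nat_lit 13, nat_lit 0, false),
  (nat_lit 13, nat_lit 1, false),
  (nat_lit 13, nat_lit 2, false),
  (nat_lit 15, nat_lit 3, false),
  (nat_lit 15, nat_lit 7, false),
  (nat_lit 15, nat_lit 8, false),
  (nat_lit 19, nat_lit 4, false),
  (nat_lit 21, nat_lit 0, false),
  (nat_lit 21, nat_lit 3, false),
  (nat_lit 21, nat_lit 4, false),
  (nat_lit 21, nat_lit 11, false),
  (nat_lit 21, nat_lit 14, false),
  (nat_lit 21, nat_lit 16, false),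
  (nat_lit 22, nat_lit 1, false),
  (nat_lit 22, nat_lit 3, false),
  (nat_lit 22, nat_lit 17, false),
  (nat_lit 23, nat_lit 0, false),
  (nat_lit 23, nat_lit 11, false),
  (nat_lit 23, nat_lit 15, false),
  (nat_lit 24, nat_lit 1, false),
  (nat_lit 24, nat_lit 17, false),
  (nat_lit 25, nat_lit 2, false),
  (nat_lit 25, nat_lit 23, false),
  (nat_lit 26, nat_lit 9, false),
  (nat_lit 29, nat_lit 22, false),
  (nat_lit 30, nat_lit 3, false),
  (nat_lit 31, nat_lit 3, false),
  (nat_lit 31, nat_lit 6, false),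
  (nat_lit 31, nat_lit 24, false),
  (nat_lit 31, nat_lit 26, false),
  (nat_lit 32, nat_lit 2, false),
  (nat_lit 32, nat_lit 6, false),
  (nat_lit 32, nat_lit 9, false),
  (nat_lit 32, nat_lit 31, false),
  (nat_lit 33, nat_lit 0, false),
  (nat_lit 33, nat_lit 21, false),
  (nat_lit 34, nat_lit 23, false),
  (nat_lit 35, nat_lit 5, false),
  (nat_lit 36, nat_lit 12, false),
  (nat_lit 36, nat_lit 15, false),
  (nat_lit 36, nat_lit 34, false),
  (nat_lit 37, nat_lit 15, false),
  (nat_lit 37, nat_lit 16, false),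
  (nat_lit 37, nat_lit 21, false),
  (nat_lit 37, nat_lit 22, false),
  (nat_lit 37, nat_lit 23, false),
  (nat_lit 38, nat_lit 22, false),
  (nat_lit 39, nat_lit 2, false),
  (nat_lit 39, nat_lit 5, false),
  (nat_lit 39, nat_lit 6, false),
  (nat_lit 39, nat_lit 14, false),
  (nat_lit 39, nat_lit 23, false),
  (nat_lit 39, nat_lit 25, false),
  (nat_lit 40, nat_lit 6, false),
  (nat_lit 40, nat_lit 21, false),
  (nat_lit 40, nat_lit 31, false),
  (nat_lit 41, nat_lit 0, false),
  (nat_lit 41, nat_lit 15, false),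
  (nat_lit 41, nat_lit 16, false),
  (nat_lit 42, nat_lit 1, false),
  (nat_lit 42, nat_lit 15, false),
  (nat_lit 42, nat_lit 17, false),
  (nat_lit 42, nat_lit 19, false),
  (nat_lit 42, nat_lit 21, false),
  (nat_lit 42, nat_lit 22, false),
  (nat_lit 42, nat_lit 33, false),
  (nat_lit 43, nat_lit 16, false),
  (nat_lit 43, nat_lit 17, false),
  (nat_lit 43, nat_lit 23, false),
  (nat_lit 45, nat_lit 21, false),
  (nat_lit 46, nat_lit 21, false),
  (nat_lit 46, nat_lit 23, false),
  (nat_lit 47, nat_lit 17, false),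
  (nat_lit 47, nat_lit 22, false),
  (nat_lit 16, nat_lit 3, false),
  (nat_lit 23, nat_lit 3, false),
  (nat_lit 25, nat_lit 3, false),
  (nat_lit 44, nat_lit 14, false),
  (nat_lit 37, nat_lit 36, false),
  (nat_lit 38, nat_lit 35, false),
  (nat_lit 39, nat_lit 34, false),
  (nat_lit 35, nat_lit 14, false),
  (nat_lit 44, nat_lit 12, false),
  (nat_lit 44, nat_lit 13, false),
  (nat_lit 44, nat_lit 11, false),
  (nat_lit 33, nat_lit 31, false),
  (nat_lit 40, nat_lit 33, false),
  (nat_lit 36, nat_lit 21, false),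
  (nat_lit 31, nat_lit 23, false),
  (nat_lit 35, nat_lit 22, false),
  (nat_lit 44, nat_lit 6, false),
  (nat_lit 33, nat_lit 29, false),
  (nat_lit 32, nat_lit 21, false),
  (nat_lit 30, nat_lit 10, false),
  (nat_lit 25, nat_lit 21, false),
  (nat_lit 33, nat_lit 32, false),
  (nat_lit 24, nat_lit 21, false),
  (nat_lit 41, nat_lit 12, false),
  (nat_lit 26, nat_lit 11, false),
  (nat_lit 31, nat_lit 9, false),
  (nat_lit 30, nat_lit 24, false),
  (nat_lit 34, nat_lit 26, false),
  (nat_lit 43, nat_lit 31, false),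
  (nat_lit 42, nat_lit 32, false),
  (nat_lit 30, nat_lit 26, false),
  (nat_lit 32, nat_lit 22, false),
  (nat_lit 42, nat_lit 11, false),
  (nat_lit 31, nat_lit 25, false),
  (nat_lit 26, nat_lit 23, false),
  (nat_lit 33, nat_lit 30, false),
  (nat_lit 37, nat_lit 6, false),
  (nat_lit 42, nat_lit 6, false),
  (nat_lit 34, nat_lit 32, false),
  (nat_lit 35, nat_lit 24, false),
  (nat_lit 25, nat_lit 12, false),
  (nat_lit 36, nat_lit 23, false),
  (nat_lit 46, nat_lit 22, false),
  (nat_lit 32, nat_lit 8, false),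
  (nat_lit 25, nat_lit 24, false),
  (nat_lit 41, nat_lit 31, false),
  (nat_lit 43, nat_lit 5, false),
  (nat_lit 33, nat_lit 28, false),
  (nat_lit 24, nat_lit 5, false),
  (nat_lit 26, nat_lit 4, false),
  (nat_lit 41, nat_lit 32, false),
  (nat_lit 43, nat_lit 30, false),
  (nat_lit 35, nat_lit 31, false),
  (nat_lit 38, nat_lit 23, false),
  (nat_lit 41, nat_lit 24, false),
  (nat_lit 47, nat_lit 4, false),
  (nat_lit 34, nat_lit 25, false),
  (nat_lit 37, nat_lit 24, false),
  (nat_lit 42, nat_lit 30, false),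
  (nat_lit 29, nat_lit 21, false),
  (nat_lit 46, nat_lit 4, false),
  (nat_lit 46, nat_lit 24, false),
  (nat_lit 37, nat_lit 26, false),
  (nat_lit 38, nat_lit 5, false),
  (nat_lit 43, nat_lit 6, false),
  (nat_lit 30, nat_lit 15, false),
  (nat_lit 45, nat_lit 5, false),
  (nat_lit 45, nat_lit 25, false),
  (nat_lit 47, nat_lit 11, false),
  (nat_lit 22, nat_lit 13, false),
  (nat_lit 32, nat_lit 17, false),
  (nat_lit 26, nat_lit 22, false),
  (nat_lit 42, nat_lit 25, false),
  (nat_lit 43, nat_lit 11, false),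
  (nat_lit 45, nat_lit 6, false),
  (nat_lit 42, nat_lit 4, false),
  (nat_lit 39, nat_lit 4, false),
  (nat_lit 23, nat_lit 22, false),
  (nat_lit 24, nat_lit 11, false),
  (nat_lit 32, nat_lit 19, false),
  (nat_lit 31, nat_lit 2, false),
  (nat_lit 44, nat_lit 10, false),
  (nat_lit 47, nat_lit 5, false),
  (nat_lit 41, nat_lit 5, false),
  (nat_lit 21, nat_lit 13, false),
  (nat_lit 41, nat_lit 4, false),
  (nat_lit 47, nat_lit 23, false),
  (nat_lit 30, nat_lit 16, false),
  (nat_lit 47, nat_lit 3, false),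
  (nat_lit 34, nat_lit 6, false),
  (nat_lit 29, nat_lit 23, false),
  (nat_lit 32, nat_lit 16, false),
  (nat_lit 41, nat_lit 26, false),
  (nat_lit 28, nat_lit 24, false),
  (nat_lit 44, nat_lit 5, false),
  (nat_lit 25, nat_lit 4, false),
  (nat_lit 39, nat_lit 21, false),
  (nat_lit 39, nat_lit 15, false),
  (nat_lit 46, nat_lit 12, false),
  (nat_lit 21, nat_lit 6, false),
  (nat_lit 28, nat_lit 12, false),
  (nat_lit 45, nat_lit 26, false),
  (nat_lit 47, nat_lit 21, false),
  (nat_lit 42, nat_lit 23, false),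
  (nat_lit 45, nat_lit 9, false),
  (nat_lit 30, nat_lit 19, false),
  (nat_lit 31, nat_lit 20, false),
  (nat_lit 36, nat_lit 30, false),
  (nat_lit 31, nat_lit 18, false),
  (nat_lit 35, nat_lit 6, false),
  (nat_lit 46, nat_lit 8, false),
  (nat_lit 43, nat_lit 21, false),
  (nat_lit 44, nat_lit 9, false),
  (nat_lit 42, nat_lit 28, false),
  (nat_lit 30, nat_lit 2, false),
  (nat_lit 42, nat_lit 14, false),
  (nat_lit 31, nat_lit 17, false),
  (nat_lit 38, nat_lit 16, false),
  (nat_lit 44, nat_lit 4, false),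
  (nat_lit 31, nat_lit 15, false)]

def S7 : List (Nat × Nat × Bool) := [
  (nat_lit 39, nat_lit 22, false),
  (nat_lit 38, nat_lit 25, false),
  (nat_lit 46, nat_lit 6, false),
  (nat_lit 40, nat_lit 1, false),
  (nat_lit 44, nat_lit 22, false),
  (nat_lit 36, nat_lit 5, false),
  (nat_lit 41, nat_lit 13, false),
  (nat_lit 42, nat_lit 13, false),
  (nat_lit 47, nat_lit 8, false),
  (nat_lit 27, nat_lit 26, false),
  (nat_lit 40, nat_lit 16, false),
  (nat_lit 42, nat_lit 9, false),
  (nat_lit 43, nat_lit 14, false),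
  (nat_lit 32, nat_lit 18, false),
  (nat_lit 33, nat_lit 12, false),
  (nat_lit 30, nat_lit 1, false),
  (nat_lit 30, nat_lit 20, false),
  (nat_lit 46, nat_lit 7, false),
  (nat_lit 31, nat_lit 0, false),
  (nat_lit 32, nat_lit 7, false),
  (nat_lit 37, nat_lit 17, false),
  (nat_lit 41, nat_lit 14, false),
  (nat_lit 41, nat_lit 29, false),
  (nat_lit 47, nat_lit 7, false),
  (nat_lit 31, nat_lit 7, false),
  (nat_lit 45, nat_lit 1, false),
  (nat_lit 45, nat_lit 10, false),
  (nat_lit 32, nat_lit 1, false),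
  (nat_lit 43, nat_lit 22, false),
  (nat_lit 47, nat_lit 16, false),
  (nat_lit 36, nat_lit 4, false),
  (nat_lit 45, nat_lit 16, false),
  (nat_lit 47, nat_lit 2, false),
  (nat_lit 33, nat_lit 11, false),
  (nat_lit 40, nat_lit 15, false),
  (nat_lit 45, nat_lit 17, false),
  (nat_lit 46, nat_lit 19, false),
  (nat_lit 46, nat_lit 10, false),
  (nat_lit 28, nat_lit 22, false),
  (nat_lit 22, nat_lit 5, false),
  (nat_lit 41, nat_lit 10, false),
  (nat_lit 32, nat_lit 0, false),
  (nat_lit 33, nat_lit 13, false),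
  (nat_lit 34, nat_lit 5, false),
  (nat_lit 40, nat_lit 2, false),
  (nat_lit 40, nat_lit 17, false),
  (nat_lit 25, nat_lit 15, false),
  (nat_lit 27, nat_lit 25, false),
  (nat_lit 47, nat_lit 15, false),
  (nat_lit 26, nat_lit 15, false),
  (nat_lit 23, nat_lit 12, false),
  (nat_lit 40, nat_lit 0, false),
  (nat_lit 43, nat_lit 12, false),
  (nat_lit 37, nat_lit 20, false),
  (nat_lit 35, nat_lit 4, false),
  (nat_lit 46, nat_lit 0, false),
  (nat_lit 37, nat_lit 3, false),
  (nat_lit 44, nat_lit 23, false),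
  (nat_lit 35, nat_lit 10, false),
  (nat_lit 46, nat_lit 15, false),
  (nat_lit 24, nat_lit 16, false),
  (nat_lit 43, nat_lit 8, false),
  (nat_lit 44, nat_lit 21, false),
  (nat_lit 27, nat_lit 13, false),
  (nat_lit 30, nat_lit 7, false),
  (nat_lit 38, nat_lit 18, false),
  (nat_lit 39, nat_lit 19, false),
  (nat_lit 47, nat_lit 18, false),
  (nat_lit 46, nat_lit 17, false),
  (nat_lit 45, nat_lit 13, false),
  (nat_lit 19, nat_lit 14, false),
  (nat_lit 45, nat_lit 7, false),
  (nat_lit 47, nat_lit 1, false),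
  (nat_lit 47, nat_lit 9, false),
  (nat_lit 43, nat_lit 27, false),
  (nat_lit 34, nat_lit 9, false),
  (nat_lit 24, nat_lit 9, false),
  (nat_lit 33, nat_lit 5, false),
  (nat_lit 46, nat_lit 2, false),
  (nat_lit 23, nat_lit 6, false),
  (nat_lit 41, nat_lit 22, false),
  (nat_lit 39, nat_lit 18, false),
  (nat_lit 33, nat_lit 4, false),
  (nat_lit 44, nat_lit 8, false),
  (nat_lit 36, nat_lit 9, false),
  (nat_lit 38, nat_lit 20, false),
  (nat_lit 40, nat_lit 18, false),
  (nat_lit 38, nat_lit 2, false),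
  (nat_lit 40, nat_lit 19, false),
  (nat_lit 46, nat_lit 3, false),
  (nat_lit 40, nat_lit 20, false),
  (nat_lit 16, nat_lit 14, false),
  (nat_lit 45, nat_lit 0, false),
  (nat_lit 23, nat_lit 10, false),
  (nat_lit 36, nat_lit 8, false),
  (nat_lit 12, nat_lit 9, false),
  (nat_lit 32, nat_lit 23, false),
  (nat_lit 30, nat_lit 22, false),
  (nat_lit 38, nat_lit 3, false),
  (nat_lit 20, nat_lit 14, false),
  (nat_lit 35, nat_lit 19, false),
  (nat_lit 14, nat_lit 6, false),
  (nat_lit 45, nat_lit 3, false),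
  (nat_lit 39, nat_lit 0, false),
  (nat_lit 33, nat_lit 6, false),
  (nat_lit 36, nat_lit 18, false),
  (nat_lit 31, nat_lit 29, false),
  (nat_lit 34, nat_lit 20, false),
  (nat_lit 37, nat_lit 2, false),
  (nat_lit 47, nat_lit 6, false),
  (nat_lit 26, nat_lit 0, false),
  (nat_lit 45, nat_lit 20, false),
  (nat_lit 31, nat_lit 21, false),
  (nat_lit 39, nat_lit 3, false),
  (nat_lit 22, nat_lit 14, false),
  (nat_lit 30, nat_lit 25, false),
  (nat_lit 38, nat_lit 21, false),
  (nat_lit 39, nat_lit 1, false),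
  (nat_lit 17, nat_lit 14, false),
  (nat_lit 35, nat_lit 8, false),
  (nat_lit 44, nat_lit 16, false),
  (nat_lit 15, nat_lit 6, false),
  (nat_lit 21, nat_lit 17, false),
  (nat_lit 29, nat_lit 6, false),
  (nat_lit 28, nat_lit 21, false),
  (nat_lit 42, nat_lit 2, false),
  (nat_lit 43, nat_lit 0, false),
  (nat_lit 23, nat_lit 14, false),
  (nat_lit 44, nat_lit 17, false),
  (nat_lit 22, nat_lit 16, false),
  (nat_lit 14, nat_lit 4, false),
  (nat_lit 40, nat_lit 3, false),
  (nat_lit 35, nat_lit 23, false),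
  (nat_lit 37, nat_lit 1, false),
  (nat_lit 43, nat_lit 1, false),
  (nat_lit 41, nat_lit 1, false),
  (nat_lit 42, nat_lit 0, false),
  (nat_lit 23, nat_lit 13, false),
  (nat_lit 36, nat_lit 6, false),
  (nat_lit 45, nat_lit 22, false),
  (nat_lit 32, nat_lit 4, false),
  (nat_lit 40, nat_lit 23, false),
  (nat_lit 25, nat_lit 1, false),
  (nat_lit 38, nat_lit 0, false),
  (nat_lit 44, nat_lit 15, false),
  (nat_lit 25, nat_lit 8, false),
  (nat_lit 15, nat_lit 14, false),
  (nat_lit 38, nat_lit 7, false),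
  (nat_lit 26, nat_lit 8, false),
  (nat_lit 36, nat_lit 3, false),
  (nat_lit 37, nat_lit 7, false),
  (nat_lit 45, nat_lit 23, false),
  (nat_lit 14, nat_lit 5, false),
  (nat_lit 34, nat_lit 21, false),
  (nat_lit 42, nat_lit 26, false),
  (nat_lit 23, nat_lit 17, false),
  (nat_lit 35, nat_lit 1, false),
  (nat_lit 33, nat_lit 22, false),
  (nat_lit 41, nat_lit 2, false),
  (nat_lit 44, nat_lit 1, false),
  (nat_lit 29, nat_lit 0, false),
  (nat_lit 34, nat_lit 2, false),
  (nat_lit 38, nat_lit 4, false),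
  (nat_lit 16, nat_lit 4, false),
  (nat_lit 21, nat_lit 10, false),
  (nat_lit 24, nat_lit 0, false),
  (nat_lit 30, nat_lit 23, false),
  (nat_lit 15, nat_lit 5, false),
  (nat_lit 44, nat_lit 0, false),
  (nat_lit 30, nat_lit 21, false),
  (nat_lit 32, nat_lit 29, false),
  (nat_lit 28, nat_lit 6, false),
  (nat_lit 40, nat_lit 4, false),
  (nat_lit 21, nat_lit 12, false),
  (nat_lit 13, nat_lit 6, false),
  (nat_lit 18, nat_lit 6, false),
  (nat_lit 29, nat_lit 26, false),
  (nat_lit 22, nat_lit 6, false),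
  (nat_lit 16, nat_lit 6, false),
  (nat_lit 31, nat_lit 5, false),
  (nat_lit 39, nat_lit 26, false),
  (nat_lit 43, nat_lit 15, false),
  (nat_lit 22, nat_lit 9, false),
  (nat_lit 22, nat_lit 21, false),
  (nat_lit 30, nat_lit 28, false),
  (nat_lit 41, nat_lit 17, false),
  (nat_lit 31, nat_lit 22, false),
  (nat_lit 25, nat_lit 19, false)]

def S8 : List (Nat × Nat × Bool) := [
  (nat_lit 22, nat_lit 2, false),
  (nat_lit 28, nat_lit 23, false),
  (nat_lit 29, nat_lit 5, false),
  (nat_lit 12, nat_lit 6, false),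
  (nat_lit 26, nat_lit 1, false),
  (nat_lit 29, nat_lit 15, false),
  (nat_lit 35, nat_lit 25, false),
  (nat_lit 30, nat_lit 4, false),
  (nat_lit 17, nat_lit 4, false),
  (nat_lit 26, nat_lit 5, false),
  (nat_lit 30, nat_lit 6, false),
  (nat_lit 38, nat_lit 24, false),
  (nat_lit 42, nat_lit 16, false),
  (nat_lit 21, nat_lit 2, false),
  (nat_lit 26, nat_lit 18, false),
  (nat_lit 28, nat_lit 5, false),
  (nat_lit 17, nat_lit 5, false),
  (nat_lit 40, nat_lit 5, false),
  (nat_lit 17, nat_lit 11, false),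
  (nat_lit 36, nat_lit 26, false),
  (nat_lit 23, nat_lit 1, false),
  (nat_lit 23, nat_lit 21, false),
  (nat_lit 24, nat_lit 2, false),
  (nat_lit 35, nat_lit 17, false),
  (nat_lit 32, nat_lit 3, false),
  (nat_lit 22, nat_lit 11, false),
  (nat_lit 27, nat_lit 23, false),
  (nat_lit 29, nat_lit 4, false),
  (nat_lit 36, nat_lit 0, false),
  (nat_lit 31, nat_lit 14, false),
  (nat_lit 32, nat_lit 14, false),
  (nat_lit 25, nat_lit 6, false),
  (nat_lit 31, nat_lit 4, false),
  (nat_lit 13, nat_lit 5, false),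
  (nat_lit 28, nat_lit 4, false),
  (nat_lit 30, nat_lit 9, false),
  (nat_lit 34, nat_lit 16, false),
  (nat_lit 35, nat_lit 15, false),
  (nat_lit 43, nat_lit 3, false),
  (nat_lit 47, nat_lit 35, false),
  (nat_lit 33, nat_lit 15, false),
  (nat_lit 35, nat_lit 26, false),
  (nat_lit 28, nat_lit 25, false),
  (nat_lit 47, nat_lit 45, false),
  (nat_lit 25, nat_lit 0, false),
  (nat_lit 11, nat_lit 5, false),
  (nat_lit 25, nat_lit 10, false),
  (nat_lit 29, nat_lit 24, false),
  (nat_lit 32, nat_lit 5, false),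
  (nat_lit 34, nat_lit 17, false),
  (nat_lit 30, nat_lit 5, false),
  (nat_lit 33, nat_lit 16, false),
  (nat_lit 27, nat_lit 21, false),
  (nat_lit 44, nat_lit 2, false),
  (nat_lit 16, nat_lit 12, false),
  (nat_lit 22, nat_lit 10, false),
  (nat_lit 28, nat_lit 16, false),
  (nat_lit 46, nat_lit 32, false),
  (nat_lit 24, nat_lit 4, false),
  (nat_lit 36, nat_lit 16, false),
  (nat_lit 37, nat_lit 31, false),
  (nat_lit 21, nat_lit 5, false),
  (nat_lit 19, nat_lit 5, false),
  (nat_lit 30, nat_lit 14, false),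
  (nat_lit 22, nat_lit 4, false),
  (nat_lit 23, nat_lit 4, false),
  (nat_lit 26, nat_lit 6, false),
  (nat_lit 43, nat_lit 13, false),
  (nat_lit 15, nat_lit 13, false),
  (nat_lit 24, nat_lit 18, false),
  (nat_lit 43, nat_lit 34, false),
  (nat_lit 46, nat_lit 14, false),
  (nat_lit 23, nat_lit 2, false),
  (nat_lit 41, nat_lit 38, false),
  (nat_lit 42, nat_lit 12, false),
  (nat_lit 24, nat_lit 6, false),
  (nat_lit 36, nat_lit 35, false),
  (nat_lit 47, nat_lit 46, false),
  (nat_lit 25, nat_lit 13, false),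
  (nat_lit 45, nat_lit 30, false),
  (nat_lit 47, nat_lit 32, false),
  (nat_lit 20, nat_lit 4, false),
  (nat_lit 27, nat_lit 5, false),
  (nat_lit 28, nat_lit 1, false),
  (nat_lit 44, nat_lit 41, false),
  (nat_lit 24, nat_lit 13, false),
  (nat_lit 31, nat_lit 30, false),
  (nat_lit 40, nat_lit 30, false),
  (nat_lit 16, nat_lit 13, false),
  (nat_lit 26, nat_lit 16, false),
  (nat_lit 27, nat_lit 4, false),
  (nat_lit 35, nat_lit 34, false),
  (nat_lit 12, nat_lit 4, false),
  (nat_lit 44, nat_lit 32, false),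
  (nat_lit 27, nat_lit 2, false),
  (nat_lit 29, nat_lit 17, false),
  (nat_lit 42, nat_lit 38, false),
  (nat_lit 43, nat_lit 38, false),
  (nat_lit 44, nat_lit 28, false),
  (nat_lit 46, nat_lit 31, false),
  (nat_lit 17, nat_lit 13, false),
  (nat_lit 31, nat_lit 28, false),
  (nat_lit 36, nat_lit 25, false),
  (nat_lit 44, nat_lit 43, false),
  (nat_lit 15, nat_lit 10, false),
  (nat_lit 16, nat_lit 10, false),
  (nat_lit 29, nat_lit 16, false),
  (nat_lit 47, nat_lit 37, false),
  (nat_lit 35, nat_lit 0, false),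
  (nat_lit 43, nat_lit 37, false),
  (nat_lit 23, nat_lit 5, false),
  (nat_lit 25, nat_lit 5, false),
  (nat_lit 27, nat_lit 6, false),
  (nat_lit 41, nat_lit 36, false),
  (nat_lit 42, nat_lit 37, false),
  (nat_lit 25, nat_lit 11, false),
  (nat_lit 26, nat_lit 14, false),
  (nat_lit 33, nat_lit 2, false),
  (nat_lit 45, nat_lit 14, false),
  (nat_lit 47, nat_lit 14, false),
  (nat_lit 45, nat_lit 31, false),
  (nat_lit 47, nat_lit 31, false),
  (nat_lit 25, nat_lit 17, false),
  (nat_lit 28, nat_lit 26, false),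
  (nat_lit 44, nat_lit 30, false),
  (nat_lit 30, nat_lit 29, false),
  (nat_lit 33, nat_lit 24, false),
  (nat_lit 40, nat_lit 12, false),
  (nat_lit 44, nat_lit 42, false),
  (nat_lit 46, nat_lit 36, false),
  (nat_lit 41, nat_lit 37, false),
  (nat_lit 21, nat_lit 19, false),
  (nat_lit 28, nat_lit 17, false),
  (nat_lit 33, nat_lit 17, false),
  (nat_lit 47, nat_lit 34, false),
  (nat_lit 40, nat_lit 11, false),
  (nat_lit 46, nat_lit 30, false),
  (nat_lit 23, nat_lit 19, false),
  (nat_lit 27, nat_lit 22, false),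
  (nat_lit 42, nat_lit 3, false),
  (nat_lit 21, nat_lit 9, false),
  (nat_lit 26, nat_lit 3, false),
  (nat_lit 27, nat_lit 15, false),
  (nat_lit 29, nat_lit 25, false),
  (nat_lit 32, nat_lit 30, false),
  (nat_lit 36, nat_lit 32, false),
  (nat_lit 42, nat_lit 31, false),
  (nat_lit 11, nat_lit 4, false),
  (nat_lit 32, nat_lit 25, false),
  (nat_lit 35, nat_lit 2, false),
  (nat_lit 17, nat_lit 6, false),
  (nat_lit 22, nat_lit 20, false),
  (nat_lit 36, nat_lit 7, false),
  (nat_lit 38, nat_lit 1, false),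
  (nat_lit 22, nat_lit 0, false),
  (nat_lit 24, nat_lit 14, false),
  (nat_lit 38, nat_lit 32, false),
  (nat_lit 43, nat_lit 35, false),
  (nat_lit 45, nat_lit 36, false),
  (nat_lit 47, nat_lit 36, false),
  (nat_lit 47, nat_lit 43, false),
  (nat_lit 38, nat_lit 30, false),
  (nat_lit 39, nat_lit 31, false),
  (nat_lit 42, nat_lit 35, false),
  (nat_lit 43, nat_lit 32, false),
  (nat_lit 46, nat_lit 34, false),
  (nat_lit 21, nat_lit 20, false),
  (nat_lit 23, nat_lit 8, false),
  (nat_lit 35, nat_lit 7, false),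
  (nat_lit 43, nat_lit 24, false),
  (nat_lit 45, nat_lit 32, false),
  (nat_lit 21, nat_lit 1, false),
  (nat_lit 26, nat_lit 25, false),
  (nat_lit 43, nat_lit 36, false),
  (nat_lit 47, nat_lit 38, false),
  (nat_lit 13, nat_lit 12, false),
  (nat_lit 21, nat_lit 15, false),
  (nat_lit 36, nat_lit 2, false),
  (nat_lit 41, nat_lit 34, false),
  (nat_lit 43, nat_lit 41, false),
  (nat_lit 22, nat_lit 7, false),
  (nat_lit 22, nat_lit 18, false),
  (nat_lit 24, nat_lit 12, false),
  (nat_lit 28, nat_lit 15, false),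
  (nat_lit 36, nat_lit 31, false),
  (nat_lit 40, nat_lit 34, false),
  (nat_lit 41, nat_lit 11, false),
  (nat_lit 44, nat_lit 7, false),
  (nat_lit 17, nat_lit 9, false),
  (nat_lit 26, nat_lit 13, false),
  (nat_lit 28, nat_lit 2, false),
  (nat_lit 41, nat_lit 25, false),
  (nat_lit 41, nat_lit 30, false),
  (nat_lit 41, nat_lit 3, false),
  (nat_lit 43, nat_lit 10, false),
  (nat_lit 43, nat_lit 39, false),
  (nat_lit 26, nat_lit 17, false),
  (nat_lit 34, nat_lit 1, false),
  (nat_lit 37, nat_lit 32, false),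
  (nat_lit 45, nat_lit 12, false),
  (nat_lit 47, nat_lit 42, false),
  (nat_lit 24, nat_lit 15, false),
  (nat_lit 35, nat_lit 21, false),
  (nat_lit 41, nat_lit 39, false),
  (nat_lit 46, nat_lit 38, false),
  (nat_lit 46, nat_lit 45, false),
  (nat_lit 26, nat_lit 12, false),
  (nat_lit 29, nat_lit 2, false),
  (nat_lit 36, nat_lit 1, false),
  (nat_lit 40, nat_lit 29, false),
  (nat_lit 42, nat_lit 39, false),
  (nat_lit 45, nat_lit 37, false),
  (nat_lit 47, nat_lit 33, false),
  (nat_lit 29, nat_lit 14, false),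
  (nat_lit 35, nat_lit 32, false),
  (nat_lit 44, nat_lit 31, false),
  (nat_lit 44, nat_lit 35, false),
  (nat_lit 46, nat_lit 41, false),
  (nat_lit 10, nat_lit 6, false),
  (nat_lit 31, nat_lit 13, false),
  (nat_lit 37, nat_lit 35, false),
  (nat_lit 42, nat_lit 24, false),
  (nat_lit 42, nat_lit 36, false),
  (nat_lit 15, nat_lit 9, false),
  (nat_lit 17, nat_lit 16, false),
  (nat_lit 27, nat_lit 16, false),
  (nat_lit 31, nat_lit 12, false),
  (nat_lit 45, nat_lit 35, false),
  (nat_lit 17, nat_lit 15, false),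
  (nat_lit 15, nat_lit 12, false),
  (nat_lit 20, nat_lit 6, false),
  (nat_lit 21, nat_lit 7, false),
  (nat_lit 34, nat_lit 0, false),
  (nat_lit 45, nat_lit 41, false),
  (nat_lit 17, nat_lit 12, false),
  (nat_lit 22, nat_lit 15, false),
  (nat_lit 33, nat_lit 25, false),
  (nat_lit 37, nat_lit 0, false),
  (nat_lit 45, nat_lit 38, false),
  (nat_lit 9, nat_lit 5, false),
  (nat_lit 19, nat_lit 6, false),
  (nat_lit 25, nat_lit 7, false),
  (nat_lit 33, nat_lit 26, false),
  (nat_lit 39, nat_lit 10, false),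
  (nat_lit 46, nat_lit 37, false),
  (nat_lit 16, nat_lit 15, false),
  (nat_lit 25, nat_lit 16, false)]

def S9 : List (Nat × Nat × Bool) := [
  (nat_lit 36, nat_lit 29, false),
  (nat_lit 38, nat_lit 10, false),
  (nat_lit 40, nat_lit 14, false),
  (nat_lit 41, nat_lit 21, false),
  (nat_lit 7, nat_lit 6, false),
  (nat_lit 14, nat_lit 13, false),
  (nat_lit 15, nat_lit 11, false),
  (nat_lit 23, nat_lit 20, false),
  (nat_lit 31, nat_lit 10, false),
  (nat_lit 39, nat_lit 30, false),
  (nat_lit 41, nat_lit 23, false),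
  (nat_lit 42, nat_lit 34, false),
  (nat_lit 45, nat_lit 11, false),
  (nat_lit 47, nat_lit 30, false),
  (nat_lit 6, nat_lit 4, false),
  (nat_lit 32, nat_lit 13, false),
  (nat_lit 32, nat_lit 27, false),
  (nat_lit 38, nat_lit 29, false),
  (nat_lit 16, nat_lit 11, false),
  (nat_lit 24, nat_lit 8, false),
  (nat_lit 8, nat_lit 5, false),
  (nat_lit 18, nat_lit 5, false),
  (nat_lit 26, nat_lit 2, false),
  (nat_lit 28, nat_lit 0, false),
  (nat_lit 42, nat_lit 40, false),
  (nat_lit 44, nat_lit 37, false),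
  (nat_lit 31, nat_lit 1, false),
  (nat_lit 34, nat_lit 7, false),
  (nat_lit 43, nat_lit 26, false),
  (nat_lit 5, nat_lit 3, false),
  (nat_lit 24, nat_lit 20, false),
  (nat_lit 44, nat_lit 19, false),
  (nat_lit 44, nat_lit 24, false),
  (nat_lit 46, nat_lit 13, false),
  (nat_lit 19, nat_lit 9, false),
  (nat_lit 22, nat_lit 12, false),
  (nat_lit 29, nat_lit 1, false),
  (nat_lit 33, nat_lit 8, false),
  (nat_lit 44, nat_lit 36, false),
  (nat_lit 38, nat_lit 26, false),
  (nat_lit 42, nat_lit 10, false),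
  (nat_lit 22, nat_lit 8, false),
  (nat_lit 36, nat_lit 22, false),
  (nat_lit 46, nat_lit 43, false),
  (nat_lit 14, nat_lit 12, false),
  (nat_lit 27, nat_lit 17, false),
  (nat_lit 29, nat_lit 13, false),
  (nat_lit 33, nat_lit 23, false),
  (nat_lit 39, nat_lit 9, false),
  (nat_lit 16, nat_lit 5, false),
  (nat_lit 44, nat_lit 40, false),
  (nat_lit 45, nat_lit 33, false),
  (nat_lit 45, nat_lit 39, false),
  (nat_lit 45, nat_lit 42, false),
  (nat_lit 47, nat_lit 13, false),
  (nat_lit 47, nat_lit 29, false),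
  (nat_lit 15, nat_lit 4, false),
  (nat_lit 28, nat_lit 14, false),
  (nat_lit 32, nat_lit 26, false),
  (nat_lit 46, nat_lit 5, false),
  (nat_lit 46, nat_lit 11, false),
  (nat_lit 46, nat_lit 25, false),
  (nat_lit 46, nat_lit 35, false),
  (nat_lit 47, nat_lit 12, false),
  (nat_lit 10, nat_lit 0, false),
  (nat_lit 17, nat_lit 3, false),
  (nat_lit 34, nat_lit 22, false),
  (nat_lit 39, nat_lit 24, false),
  (nat_lit 41, nat_lit 40, false),
  (nat_lit 18, nat_lit 10, false),
  (nat_lit 21, nat_lit 14, false),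
  (nat_lit 23, nat_lit 18, false),
  (nat_lit 43, nat_lit 40, false),
  (nat_lit 43, nat_lit 42, false),
  (nat_lit 6, nat_lit 0, false),
  (nat_lit 13, nat_lit 4, false),
  (nat_lit 14, nat_lit 11, false),
  (nat_lit 39, nat_lit 29, false),
  (nat_lit 43, nat_lit 7, false),
  (nat_lit 45, nat_lit 29, false),
  (nat_lit 17, nat_lit 8, false),
  (nat_lit 20, nat_lit 5, false),
  (nat_lit 21, nat_lit 18, false),
  (nat_lit 26, nat_lit 10, false),
  (nat_lit 41, nat_lit 28, false),
  (nat_lit 46, nat_lit 40, false),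
  (nat_lit 8, nat_lit 4, false),
  (nat_lit 24, nat_lit 22, false),
  (nat_lit 37, nat_lit 28, false),
  (nat_lit 13, nat_lit 11, false),
  (nat_lit 16, nat_lit 8, false),
  (nat_lit 21, nat_lit 8, false),
  (nat_lit 25, nat_lit 9, false),
  (nat_lit 46, nat_lit 33, false),
  (nat_lit 21, nat_lit 4, false),
  (nat_lit 32, nat_lit 12, false),
  (nat_lit 33, nat_lit 3, false),
  (nat_lit 34, nat_lit 30, false),
  (nat_lit 41, nat_lit 9, false),
  (nat_lit 44, nat_lit 38, false),
  (nat_lit 6, nat_lit 5, false),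
  (nat_lit 37, nat_lit 34, false),
  (nat_lit 34, nat_lit 23, false),
  (nat_lit 38, nat_lit 8, false),
  (nat_lit 32, nat_lit 24, false),
  (nat_lit 35, nat_lit 33, false),
  (nat_lit 40, nat_lit 22, false),
  (nat_lit 4, nat_lit 3, false),
  (nat_lit 23, nat_lit 16, false),
  (nat_lit 30, nat_lit 27, false),
  (nat_lit 32, nat_lit 28, false),
  (nat_lit 43, nat_lit 9, false),
  (nat_lit 45, nat_lit 40, false),
  (nat_lit 18, nat_lit 4, false),
  (nat_lit 39, nat_lit 35, false),
  (nat_lit 47, nat_lit 24, false),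
  (nat_lit 47, nat_lit 39, false),
  (nat_lit 6, nat_lit 3, false),
  (nat_lit 11, nat_lit 6, false),
  (nat_lit 14, nat_lit 10, false),
  (nat_lit 23, nat_lit 15, false),
  (nat_lit 37, nat_lit 8, false),
  (nat_lit 38, nat_lit 12, false),
  (nat_lit 43, nat_lit 25, false),
  (nat_lit 4, nat_lit 2, false),
  (nat_lit 24, nat_lit 10, false),
  (nat_lit 25, nat_lit 18, false),
  (nat_lit 41, nat_lit 8, false),
  (nat_lit 45, nat_lit 44, false),
  (nat_lit 22, nat_lit 3, false),
  (nat_lit 27, nat_lit 1, false),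
  (nat_lit 38, nat_lit 36, false),
  (nat_lit 46, nat_lit 28, false),
  (nat_lit 47, nat_lit 40, false),
  (nat_lit 16, nat_lit 2, false),
  (nat_lit 38, nat_lit 34, false),
  (nat_lit 42, nat_lit 7, false),
  (nat_lit 21, nat_lit 11, false),
  (nat_lit 22, nat_lit 19, false),
  (nat_lit 26, nat_lit 24, false),
  (nat_lit 37, nat_lit 11, false),
  (nat_lit 39, nat_lit 36, false),
  (nat_lit 29, nat_lit 12, false),
  (nat_lit 31, nat_lit 27, false),
  (nat_lit 34, nat_lit 12, false),
  (nat_lit 36, nat_lit 33, false),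
  (nat_lit 44, nat_lit 18, false),
  (nat_lit 45, nat_lit 28, false),
  (nat_lit 46, nat_lit 39, false),
  (nat_lit 16, nat_lit 1, false),
  (nat_lit 17, nat_lit 2, false),
  (nat_lit 30, nat_lit 8, false),
  (nat_lit 34, nat_lit 31, false),
  (nat_lit 45, nat_lit 24, false),
  (nat_lit 27, nat_lit 14, false),
  (nat_lit 40, nat_lit 25, false),
  (nat_lit 44, nat_lit 25, false),
  (nat_lit 12, nat_lit 5, false),
  (nat_lit 18, nat_lit 16, false),
  (nat_lit 27, nat_lit 0, false),
  (nat_lit 5, nat_lit 2, false),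
  (nat_lit 8, nat_lit 2, false),
  (nat_lit 21, nat_lit 3, false),
  (nat_lit 31, nat_lit 3, false),
  (nat_lit 34, nat_lit 33, false),
  (nat_lit 35, nat_lit 11, false),
  (nat_lit 35, nat_lit 28, false),
  (nat_lit 5, nat_lit 1, false),
  (nat_lit 23, nat_lit 7, false),
  (nat_lit 27, nat_lit 24, false),
  (nat_lit 42, nat_lit 8, false),
  (nat_lit 44, nat_lit 34, false),
  (nat_lit 45, nat_lit 4, false),
  (nat_lit 47, nat_lit 28, false),
  (nat_lit 33, nat_lit 21, false),
  (nat_lit 38, nat_lit 37, false),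
  (nat_lit 42, nat_lit 29, false),
  (nat_lit 46, nat_lit 26, false),
  (nat_lit 47, nat_lit 26, false),
  (nat_lit 17, nat_lit 7, false),
  (nat_lit 34, nat_lit 24, false),
  (nat_lit 40, nat_lit 37, false),
  (nat_lit 41, nat_lit 7, false),
  (nat_lit 44, nat_lit 27, false),
  (nat_lit 45, nat_lit 43, false),
  (nat_lit 46, nat_lit 29, false),
  (nat_lit 6, nat_lit 1, false),
  (nat_lit 9, nat_lit 1, false),
  (nat_lit 25, nat_lit 23, false),
  (nat_lit 37, nat_lit 21, false),
  (nat_lit 37, nat_lit 25, false),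
  (nat_lit 6, nat_lit 2, false),
  (nat_lit 14, nat_lit 9, false),
  (nat_lit 18, nat_lit 2, false),
  (nat_lit 19, nat_lit 15, false),
  (nat_lit 37, nat_lit 27, false),
  (nat_lit 39, nat_lit 13, false),
  (nat_lit 42, nat_lit 41, false),
  (nat_lit 44, nat_lit 39, false),
  (nat_lit 5, nat_lit 4, false),
  (nat_lit 15, nat_lit 1, false),
  (nat_lit 28, nat_lit 13, false),
  (nat_lit 37, nat_lit 18, false),
  (nat_lit 39, nat_lit 32, false),
  (nat_lit 41, nat_lit 35, false),
  (nat_lit 10, nat_lit 2, false),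
  (nat_lit 12, nat_lit 11, false),
  (nat_lit 15, nat_lit 2, false),
  (nat_lit 17, nat_lit 0, false),
  (nat_lit 21, nat_lit 16, false),
  (nat_lit 25, nat_lit 14, false),
  (nat_lit 26, nat_lit 7, false),
  (nat_lit 38, nat_lit 14, false),
  (nat_lit 44, nat_lit 29, false),
  (nat_lit 47, nat_lit 27, false),
  (nat_lit 23, nat_lit 9, false),
  (nat_lit 28, nat_lit 11, false),
  (nat_lit 34, nat_lit 11, false),
  (nat_lit 37, nat_lit 14, false),
  (nat_lit 40, nat_lit 24, false),
  (nat_lit 45, nat_lit 8, false),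
  (nat_lit 5, nat_lit 0, false),
  (nat_lit 16, nat_lit 0, false),
  (nat_lit 17, nat_lit 1, false),
  (nat_lit 18, nat_lit 15, false),
  (nat_lit 29, nat_lit 19, false),
  (nat_lit 35, nat_lit 13, false),
  (nat_lit 35, nat_lit 16, false),
  (nat_lit 36, nat_lit 13, false),
  (nat_lit 8, nat_lit 6, false),
  (nat_lit 13, nat_lit 9, false),
  (nat_lit 34, nat_lit 27, false),
  (nat_lit 37, nat_lit 23, false),
  (nat_lit 38, nat_lit 22, false),
  (nat_lit 39, nat_lit 33, false),
  (nat_lit 40, nat_lit 38, false),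
  (nat_lit 22, nat_lit 17, false),
  (nat_lit 29, nat_lit 10, false),
  (nat_lit 31, nat_lit 6, false),
  (nat_lit 36, nat_lit 10, false),
  (nat_lit 3, nat_lit 0, false),
  (nat_lit 23, nat_lit 0, false),
  (nat_lit 24, nat_lit 3, false),
  (nat_lit 26, nat_lit 19, false),
  (nat_lit 28, nat_lit 18, false),
  (nat_lit 35, nat_lit 9, false),
  (nat_lit 36, nat_lit 17, false),
  (nat_lit 38, nat_lit 15, false),
  (nat_lit 44, nat_lit 33, false),
  (nat_lit 46, nat_lit 9, false),
  (nat_lit 7, nat_lit 2, false),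
  (nat_lit 10, nat_lit 5, false),
  (nat_lit 16, nat_lit 7, false),
  (nat_lit 23, nat_lit 11, false),
  (nat_lit 45, nat_lit 27, false),
  (nat_lit 46, nat_lit 42, false),
  (nat_lit 10, nat_lit 9, false),
  (nat_lit 20, nat_lit 17, false),
  (nat_lit 33, nat_lit 19, false),
  (nat_lit 40, nat_lit 28, false),
  (nat_lit 9, nat_lit 2, false),
  (nat_lit 33, nat_lit 7, false),
  (nat_lit 46, nat_lit 44, false),
  (nat_lit 4, nat_lit 1, false)]

def S10 : List (Nat × Nat × Bool) := [
  (nat_lit 13, nat_lit 10, false),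
  (nat_lit 19, nat_lit 0, false),
  (nat_lit 20, nat_lit 16, false),
  (nat_lit 38, nat_lit 17, false),
  (nat_lit 40, nat_lit 26, false),
  (nat_lit 2, nat_lit 0, false),
  (nat_lit 9, nat_lit 4, false),
  (nat_lit 14, nat_lit 7, false),
  (nat_lit 19, nat_lit 17, false),
  (nat_lit 21, nat_lit 0, false),
  (nat_lit 38, nat_lit 19, false),
  (nat_lit 43, nat_lit 19, false),
  (nat_lit 47, nat_lit 10, false),
  (nat_lit 9, nat_lit 0, false),
  (nat_lit 13, nat_lit 3, false),
  (nat_lit 14, nat_lit 1, false),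
  (nat_lit 15, nat_lit 0, false),
  (nat_lit 19, nat_lit 18, false),
  (nat_lit 30, nat_lit 11, false),
  (nat_lit 31, nat_lit 11, false),
  (nat_lit 33, nat_lit 1, false),
  (nat_lit 37, nat_lit 33, false),
  (nat_lit 38, nat_lit 33, false),
  (nat_lit 39, nat_lit 17, false),
  (nat_lit 39, nat_lit 28, false),
  (nat_lit 45, nat_lit 34, false),
  (nat_lit 46, nat_lit 27, false),
  (nat_lit 47, nat_lit 41, false),
  (nat_lit 18, nat_lit 1, false),
  (nat_lit 19, nat_lit 2, false),
  (nat_lit 37, nat_lit 4, false),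
  (nat_lit 29, nat_lit 22, false),
  (nat_lit 33, nat_lit 18, false),
  (nat_lit 34, nat_lit 15, false),
  (nat_lit 34, nat_lit 18, false),
  (nat_lit 37, nat_lit 22, false),
  (nat_lit 39, nat_lit 37, false),
  (nat_lit 40, nat_lit 27, false),
  (nat_lit 41, nat_lit 18, false),
  (nat_lit 10, nat_lit 1, false),
  (nat_lit 30, nat_lit 12, false),
  (nat_lit 35, nat_lit 30, false),
  (nat_lit 14, nat_lit 2, false),
  (nat_lit 36, nat_lit 24, false),
  (nat_lit 38, nat_lit 27, false),
  (nat_lit 40, nat_lit 13, false),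
  (nat_lit 2, nat_lit 1, false),
  (nat_lit 3, nat_lit 1, false),
  (nat_lit 16, nat_lit 9, false),
  (nat_lit 17, nat_lit 10, false),
  (nat_lit 20, nat_lit 0, false),
  (nat_lit 20, nat_lit 2, false),
  (nat_lit 25, nat_lit 20, false),
  (nat_lit 27, nat_lit 11, false),
  (nat_lit 42, nat_lit 21, false),
  (nat_lit 43, nat_lit 2, false),
  (nat_lit 44, nat_lit 26, false),
  (nat_lit 14, nat_lit 3, false),
  (nat_lit 28, nat_lit 9, false),
  (nat_lit 32, nat_lit 11, false),
  (nat_lit 33, nat_lit 9, false),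
  (nat_lit 34, nat_lit 19, false),
  (nat_lit 37, nat_lit 9, false),
  (nat_lit 38, nat_lit 31, false),
  (nat_lit 39, nat_lit 16, false),
  (nat_lit 39, nat_lit 23, false),
  (nat_lit 47, nat_lit 25, false),
  (nat_lit 1, nat_lit 0, false),
  (nat_lit 7, nat_lit 5, false),
  (nat_lit 11, nat_lit 3, false),
  (nat_lit 18, nat_lit 0, false),
  (nat_lit 19, nat_lit 12, false),
  (nat_lit 29, nat_lit 27, false),
  (nat_lit 4, nat_lit 0, false),
  (nat_lit 12, nat_lit 10, false),
  (nat_lit 35, nat_lit 20, false),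
  (nat_lit 12, nat_lit 3, false),
  (nat_lit 18, nat_lit 11, false),
  (nat_lit 29, nat_lit 3, false),
  (nat_lit 34, nat_lit 8, false),
  (nat_lit 35, nat_lit 18, false),
  (nat_lit 40, nat_lit 36, false),
  (nat_lit 3, nat_lit 2, false),
  (nat_lit 28, nat_lit 3, false),
  (nat_lit 38, nat_lit 6, false),
  (nat_lit 46, nat_lit 16, false),
  (nat_lit 24, nat_lit 7, false),
  (nat_lit 30, nat_lit 0, false),
  (nat_lit 31, nat_lit 24, false),
  (nat_lit 36, nat_lit 15, false),
  (nat_lit 36, nat_lit 19, false),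
  (nat_lit 9, nat_lit 6, false),
  (nat_lit 11, nat_lit 9, false),
  (nat_lit 14, nat_lit 8, false),
  (nat_lit 45, nat_lit 18, false),
  (nat_lit 14, nat_lit 0, false),
  (nat_lit 15, nat_lit 3, false),
  (nat_lit 27, nat_lit 12, false),
  (nat_lit 37, nat_lit 5, false),
  (nat_lit 39, nat_lit 20, false),
  (nat_lit 40, nat_lit 39, false),
  (nat_lit 42, nat_lit 17, false),
  (nat_lit 22, nat_lit 1, false),
  (nat_lit 32, nat_lit 6, false),
  (nat_lit 39, nat_lit 38, false),
  (nat_lit 40, nat_lit 32, false),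
  (nat_lit 42, nat_lit 22, false),
  (nat_lit 43, nat_lit 29, false),
  (nat_lit 7, nat_lit 1, false),
  (nat_lit 9, nat_lit 3, false),
  (nat_lit 12, nat_lit 8, false),
  (nat_lit 18, nat_lit 3, false),
  (nat_lit 19, nat_lit 1, false),
  (nat_lit 29, nat_lit 20, false),
  (nat_lit 47, nat_lit 19, false),
  (nat_lit 9, nat_lit 8, false),
  (nat_lit 20, nat_lit 15, false),
  (nat_lit 30, nat_lit 3, false),
  (nat_lit 31, nat_lit 8, false),
  (nat_lit 33, nat_lit 10, false),
  (nat_lit 40, nat_lit 21, false),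
  (nat_lit 41, nat_lit 27, false),
  (nat_lit 46, nat_lit 18, false),
  (nat_lit 8, nat_lit 3, false),
  (nat_lit 36, nat_lit 20, false),
  (nat_lit 44, nat_lit 20, false),
  (nat_lit 45, nat_lit 15, false),
  (nat_lit 11, nat_lit 2, false),
  (nat_lit 31, nat_lit 19, false),
  (nat_lit 32, nat_lit 10, false),
  (nat_lit 43, nat_lit 23, false),
  (nat_lit 10, nat_lit 3, false),
  (nat_lit 11, nat_lit 1, false),
  (nat_lit 12, nat_lit 2, false),
  (nat_lit 19, nat_lit 3, false),
  (nat_lit 37, nat_lit 16, false),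
  (nat_lit 7, nat_lit 4, false),
  (nat_lit 12, nat_lit 0, false),
  (nat_lit 13, nat_lit 0, false),
  (nat_lit 19, nat_lit 16, false),
  (nat_lit 24, nat_lit 17, false),
  (nat_lit 27, nat_lit 19, false),
  (nat_lit 32, nat_lit 2, false),
  (nat_lit 41, nat_lit 19, false),
  (nat_lit 13, nat_lit 2, false),
  (nat_lit 18, nat_lit 17, false),
  (nat_lit 20, nat_lit 13, false),
  (nat_lit 24, nat_lit 19, false),
  (nat_lit 34, nat_lit 4, false),
  (nat_lit 40, nat_lit 6, false),
  (nat_lit 7, nat_lit 0, false),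
  (nat_lit 10, nat_lit 8, false),
  (nat_lit 18, nat_lit 9, false),
  (nat_lit 42, nat_lit 27, false),
  (nat_lit 43, nat_lit 18, false),
  (nat_lit 11, nat_lit 0, false),
  (nat_lit 45, nat_lit 19, false),
  (nat_lit 46, nat_lit 21, false),
  (nat_lit 8, nat_lit 1, false),
  (nat_lit 20, nat_lit 1, false),
  (nat_lit 20, nat_lit 18, false),
  (nat_lit 37, nat_lit 30, false),
  (nat_lit 43, nat_lit 20, false),
  (nat_lit 45, nat_lit 21, false),
  (nat_lit 13, nat_lit 1, false),
  (nat_lit 20, nat_lit 19, false),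
  (nat_lit 39, nat_lit 5, false),
  (nat_lit 39, nat_lit 6, false),
  (nat_lit 43, nat_lit 33, false),
  (nat_lit 11, nat_lit 8, false),
  (nat_lit 13, nat_lit 7, false),
  (nat_lit 19, nat_lit 8, false),
  (nat_lit 20, nat_lit 10, false),
  (nat_lit 27, nat_lit 18, false),
  (nat_lit 41, nat_lit 20, false),
  (nat_lit 41, nat_lit 33, false),
  (nat_lit 8, nat_lit 0, false),
  (nat_lit 12, nat_lit 1, false),
  (nat_lit 12, nat_lit 7, false),
  (nat_lit 20, nat_lit 9, false),
  (nat_lit 26, nat_lit 20, false),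
  (nat_lit 28, nat_lit 27, false),
  (nat_lit 30, nat_lit 13, false),
  (nat_lit 31, nat_lit 26, false),
  (nat_lit 32, nat_lit 20, false),
  (nat_lit 42, nat_lit 15, false),
  (nat_lit 46, nat_lit 20, false),
  (nat_lit 46, nat_lit 23, false),
  (nat_lit 19, nat_lit 10, false),
  (nat_lit 40, nat_lit 35, false),
  (nat_lit 42, nat_lit 1, false),
  (nat_lit 18, nat_lit 8, false),
  (nat_lit 33, nat_lit 20, false),
  (nat_lit 37, nat_lit 15, false),
  (nat_lit 42, nat_lit 18, false),
  (nat_lit 43, nat_lit 17, false),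
  (nat_lit 8, nat_lit 7, false),
  (nat_lit 9, nat_lit 7, false),
  (nat_lit 15, nat_lit 8, false),
  (nat_lit 41, nat_lit 16, false),
  (nat_lit 42, nat_lit 20, false),
  (nat_lit 43, nat_lit 28, false),
  (nat_lit 16, nat_lit 3, false),
  (nat_lit 24, nat_lit 1, false),
  (nat_lit 27, nat_lit 8, false),
  (nat_lit 47, nat_lit 20, false),
  (nat_lit 10, nat_lit 7, false),
  (nat_lit 20, nat_lit 3, false),
  (nat_lit 39, nat_lit 14, false),
  (nat_lit 41, nat_lit 15, false),
  (nat_lit 47, nat_lit 44, false),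
  (nat_lit 32, nat_lit 9, false),
  (nat_lit 32, nat_lit 31, false),
  (nat_lit 35, nat_lit 5, false),
  (nat_lit 39, nat_lit 2, false),
  (nat_lit 19, nat_lit 7, false),
  (nat_lit 25, nat_lit 2, false),
  (nat_lit 27, nat_lit 3, false),
  (nat_lit 28, nat_lit 20, false),
  (nat_lit 29, nat_lit 28, false),
  (nat_lit 36, nat_lit 12, false),
  (nat_lit 47, nat_lit 17, false),
  (nat_lit 10, nat_lit 4, false),
  (nat_lit 23, nat_lit 3, false),
  (nat_lit 26, nat_lit 9, false),
  (nat_lit 41, nat_lit 0, false),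
  (nat_lit 43, nat_lit 16, false),
  (nat_lit 42, nat_lit 19, false),
  (nat_lit 11, nat_lit 7, false),
  (nat_lit 19, nat_lit 4, false),
  (nat_lit 20, nat_lit 7, false),
  (nat_lit 30, nat_lit 18, false),
  (nat_lit 33, nat_lit 0, false),
  (nat_lit 39, nat_lit 25, false),
  (nat_lit 34, nat_lit 6, false),
  (nat_lit 35, nat_lit 22, false),
  (nat_lit 41, nat_lit 12, false),
  (nat_lit 38, nat_lit 0, false),
  (nat_lit 39, nat_lit 22, false),
  (nat_lit 47, nat_lit 8, false),
  (nat_lit 34, nat_lit 29, false),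
  (nat_lit 38, nat_lit 18, false),
  (nat_lit 22, nat_lit 13, false),
  (nat_lit 22, nat_lit 5, false),
  (nat_lit 22, nat_lit 2, false),
  (nat_lit 34, nat_lit 25, false),
  (nat_lit 34, nat_lit 32, false),
  (nat_lit 40, nat_lit 15, false),
  (nat_lit 44, nat_lit 22, false),
  (nat_lit 34, nat_lit 5, false),
  (nat_lit 43, nat_lit 22, false),
  (nat_lit 22, nat_lit 9, false),
  (nat_lit 28, nat_lit 22, false)]

def S11 : List (Nat × Nat × Bool) := [
  (nat_lit 30, nat_lit 19, false),
  (nat_lit 23, nat_lit 22, false),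
  (nat_lit 24, nat_lit 21, false),
  (nat_lit 22, nat_lit 20, false),
  (nat_lit 26, nat_lit 22, false),
  (nat_lit 46, nat_lit 22, false),
  (nat_lit 31, nat_lit 15, false),
  (nat_lit 22, nat_lit 7, false),
  (nat_lit 22, nat_lit 16, false),
  (nat_lit 22, nat_lit 3, false),
  (nat_lit 22, nat_lit 12, false),
  (nat_lit 33, nat_lit 22, false),
  (nat_lit 22, nat_lit 10, false),
  (nat_lit 34, nat_lit 14, false),
  (nat_lit 36, nat_lit 22, false),
  (nat_lit 37, nat_lit 22, false),
  (nat_lit 38, nat_lit 35, false),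
  (nat_lit 40, nat_lit 19, false)]


end

end Cfsg.Agent.Lib.F4Dat12
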