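/-!
# Generated data for the Schur multiplier of `F₄(2)`
-/

set_option autoImplicit false
set_option maxRecDepth 100000

namespace Cfsg.Agent.Lib.F4Dat12

noncomputable section

def TT : List (List (List Nat)) := [
  [[], [], [], [], [], [], [], [], [], [], [], [], [], [], [], [], [], [], [], [], [], [], [], [], [nat_lit 1], [], [nat_lit 2], [], [], [nat_lit 3, nat_lit 6], [], [nat_lit 4], [nat_lit 5], [], [], [], [nat_lit 7, nat_lit 17], [], [nat_lit 8, nat_lit 22], [nat_lit 9, nat_lit 25], [nat_lit 11, nat_lit 30], [], [nat_lit 15], [nat_lit 16], [nat_lit 18, nat_lit 41], [nat_lit 21], [nat_lit 23], []],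
  [[], [], [], [], [], [], [], [], [], [], [], [], [], [], [], [], [], [], [], [], [], [], [], [nat_lit 0], [], [nat_lit 2], [], [], [nat_lit 3, nat_lit 5], [], [nat_lit 4], [], [nat_lit 6], [], [], [nat_lit 7, nat_lit 16], [], [nat_lit 8, nat_lit 21], [], [nat_lit 10, nat_lit 26], [nat_lit 12, nat_lit 31], [nat_lit 15], [], [nat_lit 17], [nat_lit 19, nat_lit 42], [nat_lit 22], [], [nat_lit 24]],
  [[], [], [], [], [], [], [], [], [], [], [], [], [], [], [], [], [], [], [], [], [], [nat_lit 0], [nat_lit 1], [], [], [], [], [nat_lit 3, nat_lit 4], [], [], [nat_lit 5], [nat_lit 6], [], [], [nat_lit 7, nat_lit 15], [], [], [nat_lit 9, nat_lit 23], [nat_lit 10, nat_lit 24], [], [nat_lit 13, nat_lit 32], [nat_lit 16], [nat_lit 17], [], [nat_lit 20, nat_lit 43], [], [nat_lit 25], [nat_lit 26]],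
  [[], [], [], [], [], [], [], [], [], [], [], [], [], [], [], [], [], [], [], [], [], [], [], [], [], [], [], [], [], [], [], [], [], [nat_lit 7], [nat_lit 8], [nat_lit 9], [nat_lit 10], [nat_lit 11], [nat_lit 12], [nat_lit 13], [nat_lit 14], [nat_lit 18, nat_lit 0], [nat_lit 19, nat_lit 1], [nat_lit 20, nat_lit 2], [], [nat_lit 27, nat_lit 4], [nat_lit 28, nat_lit 5], [nat_lit 29, nat_lit 6]],
  [[], [], [], [], [], [], [], [], [], [], [], [], [], [], [], [], [nat_lit 0], [nat_lit 1], [], [], [nat_lit 3, nat_lit 2], [], [], [], [], [nat_lit 5], [nat_lit 6], [], [], [], [], [], [], [nat_lit 8, nat_lit 15], [], [nat_lit 11, nat_lit 23], [nat_lit 12, nat_lit 24], [], [], [nat_lit 14, nat_lit 32], [], [nat_lit 21], [nat_lit 22], [], [nat_lit 27, nat_lit 45], [], [nat_lit 30], [nat_lit 31]],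
  [[], [], [], [], [], [], [], [], [], [], [], [], [], [], [], [nat_lit 0], [], [nat_lit 2], [], [nat_lit 3, nat_lit 1], [], [], [nat_lit 4], [], [nat_lit 6], [], [], [], [], [], [], [], [], [nat_lit 9, nat_lit 16], [nat_lit 11, nat_lit 21], [], [nat_lit 13, nat_lit 26], [], [nat_lit 14, nat_lit 31], [], [], [nat_lit 23], [], [nat_lit 25], [nat_lit 28, nat_lit 46], [nat_lit 30], [], [nat_lit 32]],
  [[], [], [], [], [], [], [], [], [], [], [], [], [], [], [], [nat_lit 1], [nat_lit 2], [], [nat_lit 3, nat_lit 0], [], [], [nat_lit 4], [], [nat_lit 5], [], [], [], [], [], [], [], [], [], [nat_lit 10, nat_lit 17], [nat_lit 12, nat_lit 22], [nat_lit 13, nat_lit 25], [], [nat_lit 14, nat_lit 30], [], [], [], [], [nat_lit 24], [nat_lit 26], [nat_lit 29, nat_lit 47], [nat_lit 31], [nat_lit 32], []],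
  [[], [], [], [], [], [], [], [], [], [], [], [], [], [], [nat_lit 3], [], [], [], [], [], [], [], [], [], [], [], [], [nat_lit 8], [nat_lit 9], [nat_lit 10], [nat_lit 11, nat_lit 0], [nat_lit 12, nat_lit 1], [nat_lit 13, nat_lit 2], [], [], [], [], [nat_lit 18], [nat_lit 19], [nat_lit 20], [], [], [], [], [nat_lit 33], [nat_lit 34, nat_lit 15], [nat_lit 35, nat_lit 16], [nat_lit 36, nat_lit 17]],
  [[], [], [], [], [], [], [], [], [], [], [], [], [], [nat_lit 3], [], [], [], [], [], [], [nat_lit 7], [], [], [], [], [nat_lit 9, nat_lit 0], [nat_lit 10, nat_lit 1], [], [nat_lit 11], [nat_lit 12], [], [], [nat_lit 14, nat_lit 4], [], [], [nat_lit 18], [nat_lit 19], [], [], [], [nat_lit 27], [], [], [nat_lit 33, nat_lit 15], [nat_lit 34], [], [nat_lit 37, nat_lit 21], [nat_lit 38, nat_lit 22]],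
  [[], [], [], [], [], [], [], [], [], [], [], [], [nat_lit 3], [], [], [], [], [], [], [nat_lit 7], [], [], [nat_lit 8, nat_lit 0], [], [nat_lit 10, nat_lit 2], [], [], [nat_lit 11], [], [nat_lit 13], [], [nat_lit 14, nat_lit 5], [], [], [nat_lit 18], [], [nat_lit 20], [], [], [], [nat_lit 28], [], [nat_lit 33, nat_lit 16], [], [nat_lit 35], [nat_lit 37, nat_lit 23], [], [nat_lit 39, nat_lit 25]],
  [[], [], [], [], [], [], [], [], [], [], [], [nat_lit 3], [], [], [], [], [], [], [nat_lit 7], [], [], [nat_lit 8, nat_lit 1], [], [nat_lit 9, nat_lit 2], [], [], [], [nat_lit 12], [nat_lit 13], [], [nat_lit 14, nat_lit 6], [], [], [], [nat_lit 19], [nat_lit 20], [], [], [], [], [nat_lit 29], [nat_lit 33, nat_lit 17], [], [], [nat_lit 36], [nat_lit 38, nat_lit 24], [nat_lit 39, nat_lit 26], []],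
  [[], [], [], [], [], [], [], [], [], [], [nat_lit 3], [], [], [], [], [], [], [nat_lit 7, nat_lit 0], [], [nat_lit 8], [nat_lit 9], [], [], [], [nat_lit 12, nat_lit 4], [], [nat_lit 13, nat_lit 5], [], [], [nat_lit 14], [], [], [], [nat_lit 18], [], [], [], [], [nat_lit 27], [nat_lit 28], [], [], [nat_lit 34, nat_lit 21], [nat_lit 35, nat_lit 23], [nat_lit 37], [], [], [nat_lit 40, nat_lit 30]],
  [[], [], [], [], [], [], [], [], [], [nat_lit 3], [], [], [], [], [], [], [nat_lit 7, nat_lit 1], [], [nat_lit 8], [], [nat_lit 10], [], [], [nat_lit 11, nat_lit 4], [], [nat_lit 13, nat_lit 6], [], [], [nat_lit 14], [], [], [], [], [nat_lit 19], [], [], [], [nat_lit 27], [], [nat_lit 29], [], [nat_lit 34, nat_lit 22], [], [nat_lit 36, nat_lit 24], [nat_lit 38], [], [nat_lit 40, nat_lit 31], []],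
  [[], [], [], [], [], [], [], [], [nat_lit 3], [], [], [], [], [], [], [nat_lit 7, nat_lit 2], [], [], [nat_lit 9], [nat_lit 10], [], [nat_lit 11, nat_lit 5], [nat_lit 12, nat_lit 6], [], [], [], [], [nat_lit 14], [], [], [], [], [], [nat_lit 20], [], [], [], [nat_lit 28], [nat_lit 29], [], [], [nat_lit 35, nat_lit 25], [nat_lit 36, nat_lit 26], [], [nat_lit 39], [nat_lit 40, nat_lit 32], [], []],
  [[], [], [], [], [], [], [], [nat_lit 3], [], [], [], [], [], [], [], [nat_lit 8, nat_lit 4], [nat_lit 9, nat_lit 5], [nat_lit 10, nat_lit 6], [nat_lit 11], [nat_lit 12], [nat_lit 13], [], [], [], [], [], [], [], [], [], [], [], [], [], [nat_lit 27], [nat_lit 28], [nat_lit 29], [], [], [], [], [nat_lit 37, nat_lit 30], [nat_lit 38, nat_lit 31], [nat_lit 39, nat_lit 32], [nat_lit 40], [], [], []],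
  [[], [], [], [], [], [nat_lit 0], [nat_lit 1], [], [], [], [], [], [], [nat_lit 7, nat_lit 2], [nat_lit 8, nat_lit 4], [], [], [], [], [], [], [], [], [], [], [nat_lit 16], [nat_lit 17], [], [nat_lit 18, nat_lit 23], [nat_lit 19, nat_lit 24], [nat_lit 21], [nat_lit 22], [], [], [], [], [], [], [], [nat_lit 33, nat_lit 43], [nat_lit 34, nat_lit 45], [], [], [], [], [], [nat_lit 41], [nat_lit 42]],
  [[], [], [], [], [nat_lit 0], [], [nat_lit 2], [], [], [], [], [], [nat_lit 7, nat_lit 1], [], [nat_lit 9, nat_lit 5], [], [], [], [], [], [], [], [nat_lit 15], [], [nat_lit 17], [], [], [nat_lit 18, nat_lit 21], [], [nat_lit 20, nat_lit 26], [nat_lit 23], [], [nat_lit 25], [], [], [], [], [], [nat_lit 33, nat_lit 42], [], [nat_lit 35, nat_lit 46], [], [], [], [], [nat_lit 41], [], [nat_lit 43]],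
  [[], [], [], [], [nat_lit 1], [nat_lit 2], [], [], [], [], [], [nat_lit 7, nat_lit 0], [], [], [nat_lit 10, nat_lit 6], [], [], [], [], [], [], [nat_lit 15], [], [nat_lit 16], [], [], [], [nat_lit 19, nat_lit 22], [nat_lit 20, nat_lit 25], [], [], [nat_lit 24], [nat_lit 26], [], [], [], [], [nat_lit 33, nat_lit 41], [], [], [nat_lit 36, nat_lit 47], [], [], [], [], [nat_lit 42], [nat_lit 43], []],
  [[], [], [], [], [], [], [nat_lit 3, nat_lit 0], [], [], [], [nat_lit 7], [], [nat_lit 8], [nat_lit 9], [nat_lit 11], [], [], [], [], [], [], [], [], [], [nat_lit 19, nat_lit 15], [], [nat_lit 20, nat_lit 16], [], [], [], [], [nat_lit 27, nat_lit 21], [nat_lit 28, nat_lit 23], [], [], [], [nat_lit 33], [], [nat_lit 34], [nat_lit 35], [nat_lit 37], [], [], [], [], [], [], [nat_lit 44, nat_lit 41]],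
  [[], [], [], [], [], [nat_lit 3, nat_lit 1], [], [], [], [nat_lit 7], [], [nat_lit 8], [], [nat_lit 10], [nat_lit 12], [], [], [], [], [], [], [], [], [nat_lit 18, nat_lit 15], [], [nat_lit 20, nat_lit 17], [], [], [], [], [nat_lit 27, nat_lit 22], [], [nat_lit 29, nat_lit 24], [], [], [nat_lit 33], [], [nat_lit 34], [], [nat_lit 36], [nat_lit 38], [], [], [], [], [], [nat_lit 44, nat_lit 42], []],
  [[], [], [], [], [nat_lit 3, nat_lit 2], [], [], [], [nat_lit 7], [], [], [nat_lit 9], [nat_lit 10], [], [nat_lit 13], [], [], [], [], [], [], [nat_lit 18, nat_lit 16], [nat_lit 19, nat_lit 17], [], [], [], [], [], [], [], [nat_lit 28, nat_lit 25], [nat_lit 29, nat_lit 26], [], [], [nat_lit 33], [], [], [nat_lit 35], [nat_lit 36], [], [nat_lit 39], [], [], [], [], [nat_lit 44, nat_lit 43], [], []],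
  [[], [], [nat_lit 0], [], [], [], [nat_lit 4], [], [], [], [nat_lit 8, nat_lit 1], [], [], [nat_lit 11, nat_lit 5], [], [], [], [nat_lit 15], [], [], [nat_lit 18, nat_lit 16], [], [], [], [nat_lit 22], [nat_lit 23], [], [], [], [nat_lit 27, nat_lit 31], [], [], [nat_lit 30], [], [], [], [nat_lit 34, nat_lit 42], [], [], [nat_lit 37, nat_lit 46], [], [], [], [nat_lit 41], [], [], [], [nat_lit 45]],
  [[], [], [nat_lit 1], [], [], [nat_lit 4], [], [], [], [nat_lit 8, nat_lit 0], [], [], [], [nat_lit 12, nat_lit 6], [], [], [nat_lit 15], [], [], [], [nat_lit 19, nat_lit 17], [], [], [nat_lit 21], [], [], [nat_lit 24], [], [nat_lit 27, nat_lit 30], [], [], [], [nat_lit 31], [], [], [nat_lit 34, nat_lit 41], [], [], [], [nat_lit 38, nat_lit 47], [], [], [], [nat_lit 42], [], [], [nat_lit 45], []],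
  [[], [nat_lit 0], [], [], [], [], [nat_lit 5], [], [], [], [nat_lit 9, nat_lit 2], [], [nat_lit 11, nat_lit 4], [], [], [], [], [nat_lit 16], [], [nat_lit 18, nat_lit 15], [], [], [nat_lit 21], [], [], [], [nat_lit 25], [], [], [nat_lit 28, nat_lit 32], [], [nat_lit 30], [], [], [], [], [nat_lit 35, nat_lit 43], [], [nat_lit 37, nat_lit 45], [], [], [], [nat_lit 41], [], [], [], [], [nat_lit 46]],
  [[nat_lit 1], [], [], [], [], [nat_lit 6], [], [], [], [nat_lit 10, nat_lit 2], [], [nat_lit 12, nat_lit 4], [], [], [], [], [nat_lit 17], [], [nat_lit 19, nat_lit 15], [], [], [nat_lit 22], [], [], [], [nat_lit 26], [], [], [nat_lit 29, nat_lit 32], [], [nat_lit 31], [], [], [], [], [nat_lit 36, nat_lit 43], [], [nat_lit 38, nat_lit 45], [], [], [], [nat_lit 42], [], [], [], [], [nat_lit 47], []],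
  [[], [nat_lit 2], [], [], [nat_lit 5], [], [], [], [nat_lit 9, nat_lit 0], [], [], [], [nat_lit 13, nat_lit 6], [], [], [nat_lit 16], [], [], [], [nat_lit 20, nat_lit 17], [], [nat_lit 23], [], [], [nat_lit 26], [], [], [nat_lit 28, nat_lit 30], [], [], [], [nat_lit 32], [], [], [nat_lit 35, nat_lit 41], [], [], [], [nat_lit 39, nat_lit 47], [], [], [], [nat_lit 43], [], [], [nat_lit 46], [], []],
  [[nat_lit 2], [], [], [], [nat_lit 6], [], [], [], [nat_lit 10, nat_lit 1], [], [], [nat_lit 13, nat_lit 5], [], [], [], [nat_lit 17], [], [], [nat_lit 20, nat_lit 16], [], [], [], [nat_lit 24], [nat_lit 25], [], [], [], [nat_lit 29, nat_lit 31], [], [], [nat_lit 32], [], [], [], [nat_lit 36, nat_lit 42], [], [], [nat_lit 39, nat_lit 46], [], [], [], [nat_lit 43], [], [], [], [nat_lit 47], [], []],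
  [[], [], [nat_lit 3, nat_lit 4], [], [], [], [], [nat_lit 8], [], [nat_lit 11], [nat_lit 12], [], [], [nat_lit 14], [], [], [nat_lit 18, nat_lit 21], [nat_lit 19, nat_lit 22], [], [], [], [], [], [], [], [nat_lit 28, nat_lit 30], [nat_lit 29, nat_lit 31], [], [], [], [], [], [], [nat_lit 34], [], [nat_lit 37], [nat_lit 38], [], [], [nat_lit 40], [], [], [], [nat_lit 44, nat_lit 45], [], [], [], []],
  [[], [nat_lit 3, nat_lit 5], [], [], [], [], [], [nat_lit 9], [nat_lit 11], [], [nat_lit 13], [], [nat_lit 14], [], [], [nat_lit 18, nat_lit 23], [], [nat_lit 20, nat_lit 25], [], [], [], [], [nat_lit 27, nat_lit 30], [], [nat_lit 29, nat_lit 32], [], [], [], [], [], [], [], [], [nat_lit 35], [nat_lit 37], [], [nat_lit 39], [], [nat_lit 40], [], [], [], [nat_lit 44, nat_lit 46], [], [], [], [], []],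
  [[nat_lit 3, nat_lit 6], [], [], [], [], [], [], [nat_lit 10], [nat_lit 12], [nat_lit 13], [], [nat_lit 14], [], [], [], [nat_lit 19, nat_lit 24], [nat_lit 20, nat_lit 26], [], [], [], [], [nat_lit 27, nat_lit 31], [], [nat_lit 28, nat_lit 32], [], [], [], [], [], [], [], [], [], [nat_lit 36], [nat_lit 38], [nat_lit 39], [], [nat_lit 40], [], [], [], [nat_lit 44, nat_lit 47], [], [], [], [], [], []],
  [[], [nat_lit 4], [nat_lit 5], [], [], [], [], [nat_lit 11, nat_lit 0], [], [], [nat_lit 14, nat_lit 6], [], [], [], [], [nat_lit 21], [nat_lit 23], [], [], [nat_lit 27, nat_lit 22], [nat_lit 28, nat_lit 25], [], [], [], [nat_lit 31], [], [nat_lit 32], [], [], [], [], [], [], [nat_lit 37, nat_lit 41], [], [], [nat_lit 40, nat_lit 47], [], [], [], [], [], [nat_lit 45], [nat_lit 46], [], [], [], []],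
  [[nat_lit 4], [], [nat_lit 6], [], [], [], [], [nat_lit 12, nat_lit 1], [], [nat_lit 14, nat_lit 5], [], [], [], [], [], [nat_lit 22], [], [nat_lit 24], [nat_lit 27, nat_lit 21], [], [nat_lit 29, nat_lit 26], [], [], [nat_lit 30], [], [nat_lit 32], [], [], [], [], [], [], [], [nat_lit 38, nat_lit 42], [], [nat_lit 40, nat_lit 46], [], [], [], [], [], [nat_lit 45], [], [nat_lit 47], [], [], [], []],
  [[nat_lit 5], [nat_lit 6], [], [], [], [], [], [nat_lit 13, nat_lit 2], [nat_lit 14, nat_lit 4], [], [], [], [], [], [], [], [nat_lit 25], [nat_lit 26], [nat_lit 28, nat_lit 23], [nat_lit 29, nat_lit 24], [], [nat_lit 30], [nat_lit 31], [], [], [], [], [], [], [], [], [], [], [nat_lit 39, nat_lit 43], [nat_lit 40, nat_lit 45], [], [], [], [], [], [], [nat_lit 46], [nat_lit 47], [], [], [], [], []],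
  [[], [], [], [nat_lit 7], [nat_lit 8, nat_lit 15], [nat_lit 9, nat_lit 16], [nat_lit 10, nat_lit 17], [], [], [], [], [nat_lit 18], [nat_lit 19], [nat_lit 20], [], [], [], [], [], [], [], [], [], [], [], [], [], [nat_lit 34], [nat_lit 35], [nat_lit 36], [nat_lit 37, nat_lit 41], [nat_lit 38, nat_lit 42], [nat_lit 39, nat_lit 43], [], [], [], [], [], [], [], [nat_lit 44], [], [], [], [], [], [], []],
  [[], [], [nat_lit 7, nat_lit 15], [nat_lit 8], [], [nat_lit 11, nat_lit 21], [nat_lit 12, nat_lit 22], [], [], [nat_lit 18], [nat_lit 19], [], [], [], [nat_lit 27], [], [], [], [], [], [nat_lit 33], [], [], [], [], [nat_lit 35, nat_lit 41], [nat_lit 36, nat_lit 42], [], [nat_lit 37], [nat_lit 38], [], [], [nat_lit 40, nat_lit 45], [], [], [], [], [], [], [nat_lit 44], [], [], [], [], [], [], [], []],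
  [[], [nat_lit 7, nat_lit 16], [], [nat_lit 9], [nat_lit 11, nat_lit 23], [], [nat_lit 13, nat_lit 25], [], [nat_lit 18], [], [nat_lit 20], [], [], [], [nat_lit 28], [], [], [], [], [nat_lit 33], [], [], [nat_lit 34, nat_lit 41], [], [nat_lit 36, nat_lit 43], [], [], [nat_lit 37], [], [nat_lit 39], [], [nat_lit 40, nat_lit 46], [], [], [], [], [], [], [nat_lit 44], [], [], [], [], [], [], [], [], []],
  [[nat_lit 7, nat_lit 17], [], [], [nat_lit 10], [nat_lit 12, nat_lit 24], [nat_lit 13, nat_lit 26], [], [], [nat_lit 19], [nat_lit 20], [], [], [], [], [nat_lit 29], [], [], [], [nat_lit 33], [], [], [nat_lit 34, nat_lit 42], [], [nat_lit 35, nat_lit 43], [], [], [], [nat_lit 38], [nat_lit 39], [], [nat_lit 40, nat_lit 47], [], [], [], [], [], [], [nat_lit 44], [], [], [], [], [], [], [], [], [], []],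
  [[], [nat_lit 8, nat_lit 21], [nat_lit 9, nat_lit 23], [nat_lit 11], [], [], [nat_lit 14, nat_lit 30], [nat_lit 18], [], [], [], [], [nat_lit 27], [nat_lit 28], [], [], [], [nat_lit 33, nat_lit 41], [], [nat_lit 34], [nat_lit 35], [], [], [], [nat_lit 38, nat_lit 45], [], [nat_lit 39, nat_lit 46], [], [], [nat_lit 40], [], [], [], [], [], [], [nat_lit 44], [], [], [], [], [], [], [], [], [], [], []],
  [[nat_lit 8, nat_lit 22], [], [nat_lit 10, nat_lit 24], [nat_lit 12], [], [nat_lit 14, nat_lit 31], [], [nat_lit 19], [], [], [], [nat_lit 27], [], [nat_lit 29], [], [], [nat_lit 33, nat_lit 42], [], [nat_lit 34], [], [nat_lit 36], [], [], [nat_lit 37, nat_lit 45], [], [nat_lit 39, nat_lit 47], [], [], [nat_lit 40], [], [], [], [], [], [], [nat_lit 44], [], [], [], [], [], [], [], [], [], [], [], []],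
  [[nat_lit 9, nat_lit 25], [nat_lit 10, nat_lit 26], [], [nat_lit 13], [nat_lit 14, nat_lit 32], [], [], [nat_lit 20], [], [], [], [nat_lit 28], [nat_lit 29], [], [], [nat_lit 33, nat_lit 43], [], [], [nat_lit 35], [nat_lit 36], [], [nat_lit 37, nat_lit 46], [nat_lit 38, nat_lit 47], [], [], [], [], [nat_lit 40], [], [], [], [], [], [], [nat_lit 44], [], [], [], [], [], [], [], [], [], [], [], [], []],
  [[nat_lit 11, nat_lit 30], [nat_lit 12, nat_lit 31], [nat_lit 13, nat_lit 32], [nat_lit 14], [], [], [], [], [nat_lit 27], [nat_lit 28], [nat_lit 29], [], [], [], [], [nat_lit 34, nat_lit 45], [nat_lit 35, nat_lit 46], [nat_lit 36, nat_lit 47], [nat_lit 37], [nat_lit 38], [nat_lit 39], [], [], [], [], [], [], [], [], [], [], [], [], [nat_lit 44], [], [], [], [], [], [], [], [], [], [], [], [], [], []],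
  [[], [nat_lit 15], [nat_lit 16], [nat_lit 18, nat_lit 0], [nat_lit 21], [nat_lit 23], [], [], [], [], [nat_lit 33, nat_lit 17], [], [nat_lit 34, nat_lit 22], [nat_lit 35, nat_lit 25], [nat_lit 37, nat_lit 30], [], [], [], [], [], [], [], [], [], [nat_lit 42], [], [nat_lit 43], [], [], [nat_lit 44, nat_lit 47], [], [nat_lit 45], [nat_lit 46], [], [], [], [], [], [], [], [], [], [], [], [], [], [], []],
  [[nat_lit 15], [], [nat_lit 17], [nat_lit 19, nat_lit 1], [nat_lit 22], [], [nat_lit 24], [], [], [nat_lit 33, nat_lit 16], [], [nat_lit 34, nat_lit 21], [], [nat_lit 36, nat_lit 26], [nat_lit 38, nat_lit 31], [], [], [], [], [], [], [], [], [nat_lit 41], [], [nat_lit 43], [], [], [nat_lit 44, nat_lit 46], [], [nat_lit 45], [], [nat_lit 47], [], [], [], [], [], [], [], [], [], [], [], [], [], [], []],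
  [[nat_lit 16], [nat_lit 17], [], [nat_lit 20, nat_lit 2], [], [nat_lit 25], [nat_lit 26], [], [nat_lit 33, nat_lit 15], [], [], [nat_lit 35, nat_lit 23], [nat_lit 36, nat_lit 24], [], [nat_lit 39, nat_lit 32], [], [], [], [], [], [], [nat_lit 41], [nat_lit 42], [], [], [], [], [nat_lit 44, nat_lit 45], [], [], [nat_lit 46], [nat_lit 47], [], [], [], [], [], [], [], [], [], [], [], [], [], [], [], []],
  [[nat_lit 18, nat_lit 41], [nat_lit 19, nat_lit 42], [nat_lit 20, nat_lit 43], [], [nat_lit 27, nat_lit 45], [nat_lit 28, nat_lit 46], [nat_lit 29, nat_lit 47], [nat_lit 33], [nat_lit 34], [nat_lit 35], [nat_lit 36], [nat_lit 37], [nat_lit 38], [nat_lit 39], [nat_lit 40], [], [], [], [], [], [], [], [], [], [], [], [], [], [], [], [], [], [], [], [], [], [], [], [], [], [], [], [], [], [], [], [], []],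
  [[nat_lit 21], [nat_lit 22], [], [nat_lit 27, nat_lit 4], [], [nat_lit 30], [nat_lit 31], [nat_lit 34, nat_lit 15], [], [nat_lit 37, nat_lit 23], [nat_lit 38, nat_lit 24], [], [], [nat_lit 40, nat_lit 32], [], [], [nat_lit 41], [nat_lit 42], [], [], [nat_lit 44, nat_lit 43], [], [], [], [], [nat_lit 46], [nat_lit 47], [], [], [], [], [], [], [], [], [], [], [], [], [], [], [], [], [], [], [], [], []],
  [[nat_lit 23], [], [nat_lit 25], [nat_lit 28, nat_lit 5], [nat_lit 30], [], [nat_lit 32], [nat_lit 35, nat_lit 16], [nat_lit 37, nat_lit 21], [], [nat_lit 39, nat_lit 26], [], [nat_lit 40, nat_lit 31], [], [], [nat_lit 41], [], [nat_lit 43], [], [nat_lit 44, nat_lit 42], [], [], [nat_lit 45], [], [nat_lit 47], [], [], [], [], [], [], [], [], [], [], [], [], [], [], [], [], [], [], [], [], [], [], []],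
  [[], [nat_lit 24], [nat_lit 26], [nat_lit 29, nat_lit 6], [nat_lit 31], [nat_lit 32], [], [nat_lit 36, nat_lit 17], [nat_lit 38, nat_lit 22], [nat_lit 39, nat_lit 25], [], [nat_lit 40, nat_lit 30], [], [], [], [nat_lit 42], [nat_lit 43], [], [nat_lit 44, nat_lit 41], [], [], [nat_lit 45], [], [nat_lit 46], [], [], [], [], [], [], [], [], [], [], [], [], [], [], [], [], [], [], [], [], [], [], [], []]]

def VV : List Nat := [nat_lit 0x0, nat_lit 0x0, nat_lit 0x0, nat_lit 0x1fe00000000, nat_lit 0x0, nat_lit 0x0, nat_lit 0x0, nat_lit 0x10e038004000, nat_lit 0x111830102000, nat_lit 0x111428081000, nat_lit 0x110c18040800, nat_lit 0x10c220180400, nat_lit 0x10a210140200, nat_lit 0x1062080c0100, nat_lit 0x101c001c0080, nat_lit 0x0, nat_lit 0x0, nat_lit 0x0, nat_lit 0x1d000007400, nat_lit 0x1a800006a00, nat_lit 0x16400005900, nat_lit 0x0, nat_lit 0x0, nat_lit 0x0, nat_lit 0x0, nat_lit 0x0, nat_lit 0x0, nat_lit 0x9a00002680, nat_lit 0x5600001580, nat_lit 0x2e00000b80, nat_lit 0x0,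 nat_lit 0x0, nat_lit 0x0, nat_lit 0x10038003808, nat_lit 0x8030104608, nat_lit 0x4028084508, nat_lit 0x2018044308, nat_lit 0x1020183088, nat_lit 0x810142888, nat_lit 0x4080c1888, nat_lit 0x2001c0708, nat_lit 0x0, nat_lit 0x0, nat_lit 0x0, nat_lit 0x7f80, nat_lit 0x0, nat_lit 0x0, nat_lit 0x0]

end

end Cfsg.Agent.Lib.F4Dat12
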